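import Cfsg.Agent.H297.GT.Defs

/-!
# S5211, (La2): the group theory half `StGraph`

Subgroups of `SL₂(K) × SL₂(K)`, `K` of order `q = 2ⁿ ≥ 4`, with Sylow 2-subgroup `{(Lo u, Lo u²)}`.
-/

set_option autoImplicit false
set_option linter.unusedSimpArgs false

namespace Cfsg.Agent.H297.GT.Gr

open Matrix

universe u

variable {K : Type u} [Field K]

theorem s2_ext {A B : S2 K} (h00 : A.1 0 0 = B.1 0 0) (h01 : A.1 0 1 = B.1 0 1) (h10 : A.1 1 0 = B.1 1 0)
    (h11 : A.1 1 1 = B.1 1 1) : A = B := by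
  apply Subtype.ext
  ext i j
  fin_cases i <;> fin_cases j <;> assumption

theorem mul00 (A B : S2 K) : (A * B).1 0 0 = A.1 0 0 * B.1 0 0 + A.1 0 1 * B.1 1 0 := by
  rw [show (A * B).1 = A.1 * B.1 from rfl, Matrix.mul_apply, Fin.sum_univ_two]

theorem mul01 (A B : S2 K) : (A * B).1 0 1 = A.1 0 0 * B.1 0 1 + A.1 0 1 * B.1 1 1 := by
  rw [show (A * B).1 = A.1 * B.1 from rfl, Matrix.mul_apply, Fin.sum_univ_two]

theorem mul10 (A B : S2 K) : (A * B).1 1 0 = A.1 1 0 * B.1 0 0 + A.1 1 1 * B.1 1 0 := by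
  rw [show (A * B).1 = A.1 * B.1 from rfl, Matrix.mul_apply, Fin.sum_univ_two]

theorem mul11 (A B : S2 K) : (A * B).1 1 1 = A.1 1 0 * B.1 0 1 + A.1 1 1 * B.1 1 1 := by
  rw [show (A * B).1 = A.1 * B.1 from rfl, Matrix.mul_apply, Fin.sum_univ_two]

theorem inv_eq (A : S2 K) : (A⁻¹).1 = !![A.1 1 1, -A.1 0 1; -A.1 1 0, A.1 0 0] := by
  rw [Matrix.SpecialLinearGroup.coe_inv, Matrix.adjugate_fin_two]

theorem inv00 (A : S2 K) : (A⁻¹).1 0 0 = A.1 1 1 := by rw [inv_eq]; rfl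
theorem inv01 (A : S2 K) : (A⁻¹).1 0 1 = -A.1 0 1 := by rw [inv_eq]; rfl
theorem inv10 (A : S2 K) : (A⁻¹).1 1 0 = -A.1 1 0 := by rw [inv_eq]; rfl
theorem inv11 (A : S2 K) : (A⁻¹).1 1 1 = A.1 0 0 := by rw [inv_eq]; rfl

theorem det_eq (A : S2 K) : A.1 0 0 * A.1 1 1 - A.1 0 1 * A.1 1 0 = 1 := by
  have h := A.2
  rwa [Matrix.det_fin_two] at h

theorem Lo00 (u : K) : (Lo u).1 0 0 = 1 := rfl
theorem Lo01 (u : K) : (Lo u).1 0 1 = 0 := rfl
theorem Lo10 (u : K) : (Lo u).1 1 0 = u := rfl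
theorem Lo11 (u : K) : (Lo u).1 1 1 = 1 := rfl
theorem dg00 (l : Kˣ) : (dg l).1 0 0 = ((l⁻¹ : Kˣ) : K) := rfl
theorem dg01 (l : Kˣ) : (dg l).1 0 1 = 0 := rfl
theorem dg10 (l : Kˣ) : (dg l).1 1 0 = 0 := rfl
theorem dg11 (l : Kˣ) : (dg l).1 1 1 = (l : K) := rfl
theorem wS00 : (wS : S2 K).1 0 0 = 0 := rfl
theorem wS01 : (wS : S2 K).1 0 1 = 1 := rfl
theorem wS10 : (wS : S2 K).1 1 0 = -1 := rfl
theorem wS11 : (wS : S2 K).1 1 1 = 0 := rfl

theorem Lo_mul (u v : K) : Lo u * Lo v = Lo (u + v) := by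
  apply s2_ext
  · rw [mul00]; simp [Lo00, Lo01]
  · rw [mul01]; simp [Lo00, Lo01]
  · rw [mul10]; simp [Lo10, Lo11, Lo00]
  · rw [mul11]; simp [Lo10, Lo11, Lo01]

theorem Lo_zero : Lo (0 : K) = 1 := by
  apply s2_ext <;> simp [Lo]

theorem Lo_inv (u : K) : (Lo u)⁻¹ = Lo (-u) := by
  rw [inv_eq_iff_mul_eq_one, Lo_mul, add_neg_cancel, Lo_zero]

theorem Lo_inj {u v : K} (h : Lo u = Lo v) : u = v := by
  rw [← Lo10 u, ← Lo10 v, h]

theorem two_eq [CharP K 2] : (2 : K) = 0 := CharTwo.two_eq_zero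

/-- an element of trace zero, characteristic two -/
theorem sq_of_trace [CharP K 2] {g : S2 K} (h : g.1 0 0 + g.1 1 1 = 0) : g * g = 1 := by
  have h2 : (2 : K) = 0 := two_eq
  have hd := det_eq g
  apply s2_ext
  · rw [mul00]; show _ = (1 : K); linear_combination g.1 0 0 * h - hd - h2
  · rw [mul01]; show _ = (0 : K); linear_combination g.1 0 1 * h
  · rw [mul10]; show _ = (0 : K); linear_combination g.1 1 0 * h
  · rw [mul11]; show _ = (1 : K); linear_combination g.1 1 1 * h - hd - h2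

/-- no elements of order two in a group of odd order -/
theorem eq_one_of_odd {G : Type*} [Group G] {N : Subgroup G} (hN : Odd (Nat.card N)) {g : G} (hg : g ∈ N)
    (h : g * g = 1) : g = 1 := by
  have h1 : (⟨g, hg⟩ : N) ^ 2 = 1 := Subtype.ext (by rw [sq]; exact h)
  have h2 : orderOf (⟨g, hg⟩ : N) ∣ 2 := orderOf_dvd_of_pow_eq_one h1
  have h3 : orderOf (⟨g, hg⟩ : N) ∣ Nat.card N := orderOf_dvd_natCard _
  have h4 : orderOf (⟨g, hg⟩ : N) ∣ 1 := by
    have h5 := Nat.dvd_gcd h2 h3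
    have h6 : Nat.gcd 2 (Nat.card N) = 1 := (Nat.coprime_two_left).2 hN
    rwa [h6] at h5
  have h5 := orderOf_eq_one_iff.1 (Nat.dvd_one.1 h4)
  exact congrArg Subtype.val h5

theorem exists_ne01 [Finite K] (hq : 4 ≤ Nat.card K) : ∃ θ : K, θ ≠ 0 ∧ θ ≠ 1 := by
  classical
  have := Fintype.ofFinite K
  by_contra h
  push Not at h
  have h1 : (Finset.univ : Finset K) ⊆ {0, 1} := by
    intro x _
    by_cases hx : x = 0
    · simp [hx]
    · simp [h x hx]
  have h2 := Finset.card_le_card h1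
  rw [Finset.card_univ, ← Nat.card_eq_fintype_card] at h2
  have h3 := Finset.card_le_two (a := (0 : K)) (b := 1)
  omega

/-- (O) a subgroup of odd order normalised by all the `Lo u` is trivial -/
theorem odd_trivial [CharP K 2] [Finite K] (hq : 4 ≤ Nat.card K) {N : Subgroup (S2 K)} (hN : Odd (Nat.card N))
    (h : ∀ u : K, ∀ n ∈ N, Lo u * n * (Lo u)⁻¹ ∈ N) : N = ⊥ := by
  have h2 : (2 : K) = 0 := two_eq
  have hm : ∀ u : K, ∀ n ∈ N, n * Lo u * n⁻¹ * (Lo u)⁻¹ ∈ N := by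
    intro u n hn
    have h1 := mul_mem hn (h u n⁻¹ (inv_mem hn))
    rwa [show n * (Lo u * n⁻¹ * (Lo u)⁻¹) = n * Lo u * n⁻¹ * (Lo u)⁻¹ by group] at h1
  rw [eq_bot_iff]
  intro n hn
  rw [Subgroup.mem_bot]
  have hd := det_eq n
  by_cases hb : n.1 0 1 = 0
  · -- lower triangular
    rw [hb, zero_mul, sub_zero] at hd
    have ha : n.1 0 0 ≠ 0 := by intro h0; rw [h0, zero_mul] at hd; exact zero_ne_one hd
    have h3 : n * Lo 1 * n⁻¹ * (Lo 1)⁻¹ = Lo ((n.1 1 1) ^ 2 + 1) := by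
      rw [Lo_inv]
      apply s2_ext
      · simp only [mul00, mul01, mul10, mul11, inv00, inv01, inv10, inv11, Lo00, Lo01, Lo10, Lo11, hb]
        linear_combination hd
      · simp only [mul00, mul01, mul10, mul11, inv00, inv01, inv10, inv11, Lo00, Lo01, Lo10, Lo11, hb]
        ring
      · simp only [mul00, mul01, mul10, mul11, inv00, inv01, inv10, inv11, Lo00, Lo01, Lo10, Lo11, hb]
        linear_combination -hd - h2
      · simp only [mul00, mul01, mul10, mul11, inv00, inv01, inv10, inv11, Lo00, Lo01, Lo10, Lo11, hb]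
        linear_combination hd
    have h4 := hm 1 n hn
    rw [h3] at h4
    have h5 := eq_one_of_odd hN h4 (by
      rw [Lo_mul, ← Lo_zero]
      congr 1
      linear_combination ((n.1 1 1) ^ 2 + 1) * h2)
    have h6 : (n.1 1 1) ^ 2 + 1 = 0 := Lo_inj (by rw [h5, Lo_zero])
    have h7 : n.1 1 1 = 1 := by
      have : (n.1 1 1 - 1) ^ 2 = 0 := by linear_combination h6 - n.1 1 1 * h2
      exact sub_eq_zero.1 ((pow_eq_zero_iff two_ne_zero).1 this)
    have h8 : n.1 0 0 = 1 := by rw [h7, mul_one] at hd; exact hd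
    have h9 : n = Lo (n.1 1 0) := s2_ext h8 hb rfl h7
    apply eq_one_of_odd hN hn
    rw [h9, Lo_mul, ← Lo_zero]
    congr 1
    linear_combination (n.1 1 0) * h2
  · -- general case
    exfalso
    obtain ⟨θ, h0, h1⟩ := exists_ne01 hq
    have h1' : 1 + θ ≠ 0 := by
      intro h3
      apply h1
      linear_combination h3 - h2
    obtain ⟨b, hbdef⟩ : ∃ b, b = n.1 0 1 := ⟨_, rfl⟩
    rw [← hbdef] at hb hd
    obtain ⟨u, hu⟩ : ∃ u : K, u = (b * (1 + θ))⁻¹ := ⟨_, rfl⟩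
    obtain ⟨v, hv⟩ : ∃ v : K, v = (b * θ)⁻¹ := ⟨_, rfl⟩
    have hu0 : u ≠ 0 := by rw [hu]; exact inv_ne_zero (mul_ne_zero hb h1')
    have hv0 : v ≠ 0 := by rw [hv]; exact inv_ne_zero (mul_ne_zero hb h0)
    have huv : u + v = b * u * v := by
      rw [hu, hv]
      field_simp
      linear_combination θ * h2
    set g := (n * Lo u * n⁻¹ * (Lo u)⁻¹) * (n * Lo v * n⁻¹ * (Lo v)⁻¹) with hg
    have hgN : g ∈ N := mul_mem (hm u n hn) (hm v n hn)
    have e : ∀ t : K, (n * Lo t * n⁻¹ * (Lo t)⁻¹).1 0 0 = 1 + t * b * n.1 1 1 + t ^ 2 * b ^ 2 ∧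
        (n * Lo t * n⁻¹ * (Lo t)⁻¹).1 0 1 = t * b ^ 2 ∧
        (n * Lo t * n⁻¹ * (Lo t)⁻¹).1 1 0 = t * n.1 1 1 ^ 2 + t + t ^ 2 * b * n.1 1 1 ∧
        (n * Lo t * n⁻¹ * (Lo t)⁻¹).1 1 1 = 1 + t * b * n.1 1 1 := by
      intro t
      rw [Lo_inv]
      refine ⟨?_, ?_, ?_, ?_⟩
      · simp only [mul00, mul01, mul10, mul11, inv00, inv01, inv10, inv11, Lo00, Lo01, Lo10, Lo11, ← hbdef]
        linear_combination hd + (0 : K) * h2
      · simp only [mul00, mul01, mul10, mul11, inv00, inv01, inv10, inv11, Lo00, Lo01, Lo10, Lo11, ← hbdef]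
        linear_combination -(t * b ^ 2) * h2
      · simp only [mul00, mul01, mul10, mul11, inv00, inv01, inv10, inv11, Lo00, Lo01, Lo10, Lo11, ← hbdef]
        linear_combination (-t) * hd - t * h2
      · simp only [mul00, mul01, mul10, mul11, inv00, inv01, inv10, inv11, Lo00, Lo01, Lo10, Lo11, ← hbdef]
        linear_combination hd - (t * b * n.1 1 1) * h2
    obtain ⟨u00, u01, u10, u11⟩ := e u
    obtain ⟨v00, v01, v10, v11⟩ := e v
    have htr : g.1 0 0 + g.1 1 1 = 0 := by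
      rw [hg, mul00, mul11, u00, u01, u10, u11, v00, v01, v10, v11]
      have h3 : (b * (u + v) + b ^ 2 * u * v) = 0 := by
        rw [huv]; linear_combination (b ^ 2 * u * v) * h2
      linear_combination (b * (u + v) + b ^ 2 * u * v) * h3 + (1 + v * b * n.1 1 1 + u * b * n.1 1 1 +
        2 * u * v * b ^ 2 * n.1 1 1 ^ 2 + u * v ^ 2 * b ^ 3 * n.1 1 1 + u ^ 2 * v * b ^ 3 * n.1 1 1 -
        b ^ 3 * u * v * (u + v)) * h2
    have hg1 := eq_one_of_odd hN hgN (sq_of_trace htr)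
    have h3 : g.1 0 1 = 0 := by rw [hg1]; rfl
    rw [hg, mul01, u00, u01, v01, v11] at h3
    have h4 : b ^ 2 * (b * u * v) * (1 + u * b) = 0 := by
      linear_combination h3 - b ^ 2 * huv - (u * v * b ^ 3 * n.1 1 1) * h2
    have h5 : (1 + u * b) ≠ 0 := by
      rw [hu]
      intro h6
      apply h0
      field_simp at h6
      linear_combination h6 - h2
    exact (mul_ne_zero (mul_ne_zero (pow_ne_zero 2 hb) (mul_ne_zero (mul_ne_zero hb hu0) hv0)) h5) h4

/-- a subgroup containing all `Lo u` and an element which is not lower triangular is the whole group -/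
theorem gen_top {H : Subgroup (S2 K)} (hU : ∀ u : K, Lo u ∈ H) {n : S2 K} (hn : n ∈ H) (hb : n.1 0 1 ≠ 0) :
    H = ⊤ := by
  -- the element `[[0, b], [-b⁻¹, 0]]`
  set b := n.1 0 1 with hbdef
  have hd := det_eq n
  rw [← hbdef] at hd
  let m : S2 K := ⟨!![0, b; -b⁻¹, 0], by rw [Matrix.det_fin_two_of]; field_simp; ring⟩
  have m00 : m.1 0 0 = 0 := rfl
  have m01 : m.1 0 1 = b := rfl
  have m10 : m.1 1 0 = -b⁻¹ := rfl
  have m11 : m.1 1 1 = 0 := rfl
  have hm : Lo (-(n.1 1 1 / b)) * n * Lo (-(n.1 0 0 / b)) = m := by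
    apply s2_ext
    · simp only [mul00, mul01, mul10, mul11, Lo00, Lo01, Lo10, Lo11, m00, m01, m10, m11, ← hbdef]
      field_simp; ring
    · simp only [mul00, mul01, mul10, mul11, Lo00, Lo01, Lo10, Lo11, m00, m01, m10, m11, ← hbdef]
      ring
    · simp only [mul00, mul01, mul10, mul11, Lo00, Lo01, Lo10, Lo11, m00, m01, m10, m11, ← hbdef]
      field_simp
      linear_combination -hd
    · simp only [mul00, mul01, mul10, mul11, Lo00, Lo01, Lo10, Lo11, m00, m01, m10, m11, ← hbdef]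
      field_simp; ring
  have hmH : m ∈ H := by
    rw [← hm]
    exact mul_mem (mul_mem (hU _) hn) (hU _)
  -- upper unipotent elements
  let Up : K → S2 K := fun t => ⟨!![1, t; 0, 1], by rw [Matrix.det_fin_two_of]; ring⟩
  have p00 : ∀ t, (Up t).1 0 0 = 1 := fun _ => rfl
  have p01 : ∀ t, (Up t).1 0 1 = t := fun _ => rfl
  have p10 : ∀ t, (Up t).1 1 0 = 0 := fun _ => rfl
  have p11 : ∀ t, (Up t).1 1 1 = 1 := fun _ => rfl
  have hUp : ∀ t, Up t ∈ H := by
    intro t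
    have h1 : m * Lo (-(t / b ^ 2)) * m⁻¹ = Up t := by
      apply s2_ext
      · simp only [mul00, mul01, mul10, mul11, inv00, inv01, inv10, inv11, Lo00, Lo01, Lo10, Lo11, m00, m01, m10, m11, p00]
        field_simp; ring
      · simp only [mul00, mul01, mul10, mul11, inv00, inv01, inv10, inv11, Lo00, Lo01, Lo10, Lo11, m00, m01, m10, m11, p01]
        field_simp; ring
      · simp only [mul00, mul01, mul10, mul11, inv00, inv01, inv10, inv11, Lo00, Lo01, Lo10, Lo11, m00, m01, m10, m11, p10]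
        ring
      · simp only [mul00, mul01, mul10, mul11, inv00, inv01, inv10, inv11, Lo00, Lo01, Lo10, Lo11, m00, m01, m10, m11, p11]
        field_simp; ring
    rw [← h1]
    exact mul_mem (mul_mem hmH (hU _)) (inv_mem hmH)
  -- elements with non zero upper right entry
  have key : ∀ g : S2 K, g.1 0 1 ≠ 0 → g ∈ H := by
    intro g hg
    have hdg := det_eq g
    have h1 : Lo ((g.1 1 1 - 1) / g.1 0 1) * Up (g.1 0 1) * Lo ((g.1 0 0 - 1) / g.1 0 1) = g := by
      apply s2_ext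
      · simp only [mul00, mul01, mul10, mul11, Lo00, Lo01, Lo10, Lo11, p00, p01, p10, p11]
        field_simp; ring
      · simp only [mul00, mul01, mul10, mul11, Lo00, Lo01, Lo10, Lo11, p00, p01, p10, p11]
        ring
      · simp only [mul00, mul01, mul10, mul11, Lo00, Lo01, Lo10, Lo11, p00, p01, p10, p11]
        field_simp
        linear_combination hdg
      · simp only [mul00, mul01, mul10, mul11, Lo00, Lo01, Lo10, Lo11, p00, p01, p10, p11]
        field_simp; ring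
    rw [← h1]
    exact mul_mem (mul_mem (hU _) (hUp _)) (hU _)
  rw [eq_top_iff]
  intro g _
  by_cases hg : g.1 0 1 = 0
  · have hdg := det_eq g
    rw [hg, zero_mul, sub_zero] at hdg
    have h0 : g.1 0 0 ≠ 0 := by intro h0; rw [h0, zero_mul] at hdg; exact zero_ne_one hdg
    have h1 : g * Up 1 ∈ H := by
      apply key
      rw [mul01, p01, p11, hg]
      simpa using h0
    have h2 := mul_mem h1 (inv_mem (hUp 1))
    rwa [mul_inv_cancel_right] at h2
  · exact key g hg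

/-- the root elements of `SL₂ × SL₂` -/
def Pg (K : Type u) [Field K] [CharP K 2] : Subgroup (S2 K × S2 K) where
  carrier := {x | ∃ u : K, x = (Lo u, Lo (u ^ 2))}
  one_mem' := ⟨0, by rw [zero_pow two_ne_zero, Lo_zero]; rfl⟩
  mul_mem' := by
    rintro _ _ ⟨u, rfl⟩ ⟨v, rfl⟩
    refine ⟨u + v, ?_⟩
    rw [Prod.mk_mul_mk, Lo_mul, Lo_mul, CharTwo.add_sq]
  inv_mem' := by
    rintro _ ⟨u, rfl⟩
    refine ⟨-u, ?_⟩
    rw [Prod.inv_mk, Lo_inv, Lo_inv]
    congr 2
    rw [CharTwo.neg_eq, CharTwo.neg_eq]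

theorem mem_Pg [CharP K 2] {x : S2 K × S2 K} : x ∈ Pg K ↔ ∃ u : K, x = (Lo u, Lo (u ^ 2)) := Iff.rfl

theorem card_Pg [CharP K 2] : Nat.card (Pg K) = Nat.card K := by
  refine Nat.card_congr (Equiv.symm (Equiv.ofBijective (fun u : K => (⟨(Lo u, Lo (u ^ 2)), u, rfl⟩ : Pg K)) ⟨?_, ?_⟩))
  · intro u v h
    exact Lo_inj (congrArg Prod.fst (congrArg Subtype.val h))
  · rintro ⟨x, u, rfl⟩
    exact ⟨u, rfl⟩

theorem isPGroup_Pg [CharP K 2] : IsPGroup 2 (Pg K) := by
  rintro ⟨x, u, rfl⟩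
  refine ⟨1, Subtype.ext ?_⟩
  show ((Lo u, Lo (u ^ 2)) : S2 K × S2 K) ^ 2 ^ 1 = 1
  have h2 : (2 : K) = 0 := two_eq
  rw [pow_one, sq, Prod.mk_mul_mk, Lo_mul, Lo_mul]
  have e1 : u + u = 0 := by linear_combination u * h2
  have e2 : u ^ 2 + u ^ 2 = 0 := by linear_combination u ^ 2 * h2
  rw [e1, e2, Lo_zero]
  rfl

/-- every element is a square -/
theorem exists_sq [Finite K] [CharP K 2] (a : K) : ∃ b : K, b ^ 2 = a := by
  have h1 : Function.Injective (fun b : K => b ^ 2) := by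
    intro x y h
    have h2 : (2 : K) = 0 := two_eq
    have h3 : x ^ 2 = y ^ 2 := h
    have h4 : (x - y) ^ 2 = 0 := by linear_combination h3 + (y ^ 2 - x * y) * h2
    exact sub_eq_zero.1 ((pow_eq_zero_iff two_ne_zero).1 h4)
  obtain ⟨b, hb⟩ := Finite.surjective_of_injective h1 a
  exact ⟨b, hb⟩

/-- the kernel of the first projection has odd order -/
theorem ker_bot [Finite K] [CharP K 2] (hq : 4 ≤ Nat.card K) {L : Subgroup (S2 K × S2 K)}
    (hP : ∀ u : K, (Lo u, Lo (u ^ 2)) ∈ L)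
    (hsyl : ∀ Y : Subgroup (S2 K × S2 K), Y ≤ L → IsPGroup 2 Y → Nat.card Y ≤ Nat.card K)
    {h : S2 K} (hh : ((1, h) : S2 K × S2 K) ∈ L) : h = 1 := by
  classical
  let N : Subgroup (S2 K) := L.comap (MonoidHom.inr (S2 K) (S2 K))
  have hN : ∀ x, x ∈ N ↔ ((1, x) : S2 K × S2 K) ∈ L := fun x => Iff.rfl
  -- the preimage of the `Lo u`
  let M : Subgroup (S2 K × S2 K) :=
    { carrier := {x | x ∈ L ∧ ∃ u : K, x.1 = Lo u}
      one_mem' := ⟨one_mem _, 0, by rw [Lo_zero]; rfl⟩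
      mul_mem' := by
        rintro x y ⟨hx, u, hu⟩ ⟨hy, v, hv⟩
        exact ⟨mul_mem hx hy, u + v, by rw [Prod.fst_mul, hu, hv, Lo_mul]⟩
      inv_mem' := by
        rintro x ⟨hx, u, hu⟩
        exact ⟨inv_mem hx, -u, by rw [Prod.fst_inv, hu, Lo_inv]⟩ }
  have hcM : Nat.card M = Nat.card K * Nat.card N := by
    rw [← Nat.card_prod]
    refine Nat.card_congr (Equiv.symm (Equiv.ofBijective
      (fun x : K × N => (⟨(Lo x.1, Lo (x.1 ^ 2) * x.2), ?_, x.1, rfl⟩ : M)) ⟨?_, ?_⟩))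
    · have := mul_mem (hP x.1) ((hN _).1 x.2.2)
      rwa [Prod.mk_mul_mk, mul_one] at this
    · rintro ⟨u, x⟩ ⟨v, y⟩ hxy
      have h1 := congrArg Subtype.val hxy
      obtain ⟨h2, h3⟩ := Prod.mk.inj h1
      have h4 : u = v := Lo_inj h2
      subst h4
      have h5 : (x : S2 K) = y := mul_left_cancel h3
      exact Prod.ext rfl (Subtype.ext h5)
    · rintro ⟨⟨x1, x2⟩, hx, u, hu⟩
      simp only at hu
      subst hu
      refine ⟨(u, ⟨(Lo (u ^ 2))⁻¹ * x2, ?_⟩), ?_⟩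
      · rw [hN]
        have := mul_mem (inv_mem (hP u)) hx
        rwa [Prod.inv_mk, Prod.mk_mul_mk, inv_mul_cancel] at this
      · apply Subtype.ext
        show (Lo u, Lo (u ^ 2) * ((Lo (u ^ 2))⁻¹ * x2)) = (Lo u, x2)
        rw [mul_inv_cancel_left]
  have hfin : Finite (S2 K × S2 K) := inferInstance
  -- odd order
  have hodd : Odd (Nat.card N) := by
    rw [← Nat.not_even_iff_odd]
    rintro ⟨k, hk⟩
    -- `q` is a power of two
    obtain ⟨m, hm⟩ := IsPGroup.iff_card.1 (isPGroup_Pg (K := K))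
    rw [card_Pg] at hm
    have h1 : 2 ^ (m + 1) ∣ Nat.card M := by
      rw [hcM, hm, hk, pow_succ]
      exact ⟨k, by ring⟩
    have : Fact (Nat.Prime 2) := ⟨Nat.prime_two⟩
    obtain ⟨Y, hY⟩ := Sylow.exists_subgroup_card_pow_prime 2 h1
    have h2 := hsyl (Y.map M.subtype) (by
      rintro _ ⟨x, -, rfl⟩
      exact x.2.1) ((IsPGroup.of_card hY).map _)
    rw [Subgroup.card_map_of_injective M.subtype_injective, hY, hm, pow_succ] at h2
    have := Nat.one_le_two_pow (n := m)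
    omega
  have h1 : N = ⊥ := by
    apply odd_trivial hq hodd
    intro u n hn
    obtain ⟨v, rfl⟩ := exists_sq u
    rw [hN] at hn ⊢
    have h2 := mul_mem (mul_mem (hP v) hn) (inv_mem (hP v))
    rw [Prod.inv_mk, Prod.mk_mul_mk, Prod.mk_mul_mk, mul_one, mul_inv_cancel] at h2
    exact h2
  have h2 : h ∈ N := (hN h).2 hh
  rw [h1, Subgroup.mem_bot] at h2
  exact h2

/-- **the group theory half** -/
theorem stGraph : StGraph.{u} := by
  intro K _ _ _ hq L hP hsyl hgen hne hT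
  classical
  have h2 : (2 : K) = 0 := two_eq
  have hfact : Fact (Nat.Prime 2) := ⟨Nat.prime_two⟩
  have hfin : Finite (S2 K × S2 K) := inferInstance
  have inj : ∀ {g h h' : S2 K}, ((g, h) : S2 K × S2 K) ∈ L → ((g, h') : S2 K × S2 K) ∈ L → h = h' := by
    intro g h h' h1 h3
    have h4 := mul_mem (inv_mem h1) h3
    rw [Prod.inv_mk, Prod.mk_mul_mk, inv_mul_cancel] at h4
    have h5 := ker_bot hq hP hsyl h4
    exact (inv_mul_eq_one.1 h5)
  -- the first projection is onto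
  have htop : L.map (MonoidHom.fst (S2 K) (S2 K)) = ⊤ := by
    by_cases hex : ∃ x ∈ L, x.1.1 0 1 ≠ 0
    · obtain ⟨x, hx, hx1⟩ := hex
      exact gen_top (fun u => ⟨_, hP u, rfl⟩) (n := x.1) ⟨x, hx, rfl⟩ hx1
    · exfalso
      push Not at hex
      obtain ⟨x, hx, hx2⟩ := hne
      have h3 : L ≤ Pg K := by
        refine hgen.trans ?_
        rw [Subgroup.closure_le]
        rintro y ⟨hy, k, hk⟩
        -- the diagonal entries
        have h4 : ∀ m : ℕ, (y.1 ^ m).1 0 0 = (y.1.1 0 0) ^ m := by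
          intro m
          induction m with
          | zero => rw [pow_zero, pow_zero]; rfl
          | succ m ih =>
            have h5 : (y.1 ^ m).1 0 1 = 0 := by
              have := hex (y ^ m) (pow_mem hy m)
              rwa [Prod.pow_fst] at this
            rw [pow_succ, mul00, ih, h5, zero_mul, add_zero, pow_succ]
        have h5 : (y.1.1 0 0) ^ 2 ^ k = 1 := by
          rw [← h4]
          have : y.1 ^ 2 ^ k = 1 := by rw [← Prod.pow_fst, hk]; rfl
          rw [this]; rfl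
        have h6 : y.1.1 0 0 = 1 := by
          have h7 : (y.1.1 0 0 - 1) ^ 2 ^ k = 0 := by
            rw [sub_pow_char_pow, h5, one_pow, sub_self]
          exact sub_eq_zero.1 (pow_eq_zero_iff (pow_ne_zero k two_ne_zero) |>.1 h7)
        have h7 := det_eq y.1
        rw [h6, hex y hy, zero_mul, sub_zero, one_mul] at h7
        have h8 : y.1 = Lo (y.1.1 1 0) := s2_ext h6 (hex y hy) rfl h7
        refine ⟨y.1.1 1 0, Prod.ext h8 ?_⟩
        exact inj (g := y.1) hy (by rw [h8]; exact hP _)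
      obtain ⟨u, hu⟩ := h3 hx
      exact hx2 u hu
  have hex : ∀ g : S2 K, ∃ h : S2 K, ((g, h) : S2 K × S2 K) ∈ L := by
    intro g
    have : g ∈ L.map (MonoidHom.fst (S2 K) (S2 K)) := by rw [htop]; trivial
    obtain ⟨x, hx, rfl⟩ := this
    exact ⟨x.2, hx⟩
  -- the torus
  have hcj : ∀ (l : Kˣ) (w : K), dg l * Lo w * (dg l)⁻¹ = Lo ((l : K) ^ 2 * w) := by
    intro l w
    have hl := l.ne_zero
    have hli : ((l⁻¹ : Kˣ) : K) = (l : K)⁻¹ := Units.val_inv_eq_inv_val l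
    apply s2_ext
    · simp only [mul00, mul01, mul10, mul11, inv00, inv01, inv10, inv11, Lo00, Lo01, Lo10, Lo11, dg00, dg01, dg10, dg11, hli]
      field_simp; ring
    · simp only [mul00, mul01, mul10, mul11, inv00, inv01, inv10, inv11, Lo00, Lo01, Lo10, Lo11, dg00, dg01, dg10, dg11, hli]
      ring
    · simp only [mul00, mul01, mul10, mul11, inv00, inv01, inv10, inv11, Lo00, Lo01, Lo10, Lo11, dg00, dg01, dg10, dg11, hli]
      ring
    · simp only [mul00, mul01, mul10, mul11, inv00, inv01, inv10, inv11, Lo00, Lo01, Lo10, Lo11, dg00, dg01, dg10, dg11, hli]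
      field_simp; ring
  have htor : ∀ l : Kˣ, (dg l, dg (l ^ 2)) ∈ L := by
    intro l
    obtain ⟨h, hh⟩ := hex (dg l)
    obtain ⟨u, m, hum⟩ := hT _ hh (fun u => by
      refine ⟨(l : K) ^ 2 * u, ?_⟩
      have h3 := mul_mem (mul_mem hh (hP u)) (inv_mem hh)
      have h4 : ((dg l, h) : S2 K × S2 K) * (Lo u, Lo (u ^ 2)) * ((dg l, h) : S2 K × S2 K)⁻¹ =
          (Lo ((l : K) ^ 2 * u), h * Lo (u ^ 2) * h⁻¹) := by
        rw [Prod.inv_mk, Prod.mk_mul_mk, Prod.mk_mul_mk, hcj]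
      rw [h4] at h3 ⊢
      rw [inj h3 (hP _)])
    obtain ⟨h3, h4⟩ := Prod.mk.inj hum
    have h5 : (m : K) = l := by
      have h6 := congrArg (fun s : S2 K => s.1 1 1) h3
      simp only [mul11, Lo10, Lo11, dg01, dg11] at h6
      rw [h6]; ring
    have hml : m = l := Units.ext h5
    have h6 : u = 0 := by
      have h7 := congrArg (fun s : S2 K => s.1 1 0) h3
      simp only [mul10, Lo10, Lo11, dg00, dg10] at h7
      have h8 : u * ((m⁻¹ : Kˣ) : K) = 0 := by linear_combination -h7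
      exact (mul_eq_zero.1 h8).resolve_right (Units.ne_zero _)
    rw [h6, hml, zero_pow two_ne_zero, Lo_zero, one_mul] at h4
    rwa [h4] at hh
  -- the Weyl element
  have hwS : ((wS, wS) : S2 K × S2 K) ∈ L := by
    obtain ⟨h, hh⟩ := hex wS
    obtain ⟨θ, hθ0, hθ1⟩ := exists_ne01 hq
    let l : Kˣ := Units.mk0 θ hθ0
    have hlK : (l : K) = θ := rfl
    have h3 : wS * dg l * wS⁻¹ = dg l⁻¹ := by
      have hli : ((l⁻¹ : Kˣ) : K) = (l : K)⁻¹ := Units.val_inv_eq_inv_val l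
      apply s2_ext
      · simp only [mul00, mul01, mul10, mul11, inv00, inv01, inv10, inv11, wS00, wS01, wS10, wS11, dg00, dg01, dg10, dg11, inv_inv]
        ring
      · simp only [mul00, mul01, mul10, mul11, inv00, inv01, inv10, inv11, wS00, wS01, wS10, wS11, dg00, dg01, dg10, dg11, inv_inv]
        ring
      · simp only [mul00, mul01, mul10, mul11, inv00, inv01, inv10, inv11, wS00, wS01, wS10, wS11, dg00, dg01, dg10, dg11, inv_inv]
        ring
      · simp only [mul00, mul01, mul10, mul11, inv00, inv01, inv10, inv11, wS00, wS01, wS10, wS11, dg00, dg01, dg10, dg11, inv_inv]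
        ring
    have h4 := mul_mem (mul_mem hh (htor l)) (inv_mem hh)
    rw [Prod.inv_mk, Prod.mk_mul_mk, Prod.mk_mul_mk, h3] at h4
    have h5 := inj h4 (htor l⁻¹)
    rw [mul_inv_eq_iff_eq_mul] at h5
    -- entries
    have hm : ((l ^ 2 : Kˣ) : K) = θ ^ 2 := rfl
    have hm' : ((((l ^ 2)⁻¹ : Kˣ)) : K) = (θ ^ 2)⁻¹ := by rw [Units.val_inv_eq_inv_val, hm]
    have hn : (((l⁻¹) ^ 2 : Kˣ) : K) = (θ ^ 2)⁻¹ := by
      rw [Units.val_pow_eq_pow_val, Units.val_inv_eq_inv_val, hlK, inv_pow]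
    have hn' : (((((l⁻¹) ^ 2)⁻¹ : Kˣ)) : K) = θ ^ 2 := by
      rw [Units.val_inv_eq_inv_val, hn, inv_inv]
    have hθ4 : θ ^ 4 - 1 ≠ 0 := by
      intro h6
      apply hθ1
      have : (θ - 1) ^ 4 = 0 := by linear_combination h6 + (-2 * θ ^ 3 + 3 * θ ^ 2 - 2 * θ + 1) * h2
      exact sub_eq_zero.1 ((pow_eq_zero_iff four_ne_zero).1 this)
    have e00 := congrArg (fun s : S2 K => s.1 0 0) h5
    have e11 := congrArg (fun s : S2 K => s.1 1 1) h5
    simp only [mul00, mul11, dg00, dg01, dg10, dg11, hm, hm', hn, hn'] at e00 e11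
    have h00 : h.1 0 0 = 0 := by
      have h6 : h.1 0 0 * (θ ^ 4 - 1) = 0 := by
        field_simp at e00
        linear_combination -e00
      exact (mul_eq_zero.1 h6).resolve_right hθ4
    have h11 : h.1 1 1 = 0 := by
      have h6 : h.1 1 1 * (θ ^ 4 - 1) = 0 := by
        field_simp at e11
        linear_combination e11
      exact (mul_eq_zero.1 h6).resolve_right hθ4
    have hd := det_eq h
    rw [h00, h11] at hd
    -- the cube of `Lo 1 * wS`
    have h6 : Lo 1 * wS * (Lo 1 * wS) * (Lo 1 * wS) = (1 : S2 K) := by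
      apply s2_ext
      · show _ = (1 : K)
        simp only [mul00, mul01, mul10, mul11, Lo00, Lo01, Lo10, Lo11, wS00, wS01, wS10, wS11]
        linear_combination -h2
      · show _ = (0 : K)
        simp only [mul00, mul01, mul10, mul11, Lo00, Lo01, Lo10, Lo11, wS00, wS01, wS10, wS11]
        ring
      · show _ = (0 : K)
        simp only [mul00, mul01, mul10, mul11, Lo00, Lo01, Lo10, Lo11, wS00, wS01, wS10, wS11]
        ring
      · show _ = (1 : K)
        simp only [mul00, mul01, mul10, mul11, Lo00, Lo01, Lo10, Lo11, wS00, wS01, wS10, wS11]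
        linear_combination -h2
    have h7 := mul_mem (hP 1) hh
    have h8 := mul_mem (mul_mem h7 h7) h7
    rw [one_pow, Prod.mk_mul_mk, Prod.mk_mul_mk, Prod.mk_mul_mk, h6] at h8
    have h9 := ker_bot hq hP hsyl h8
    have e01 := congrArg (fun s : S2 K => s.1 0 1) h9
    have e01' : (Lo 1 * h * (Lo 1 * h) * (Lo 1 * h)).1 0 1 = 0 := e01
    simp only [mul00, mul01, mul10, mul11, Lo00, Lo01, Lo10, Lo11, h00, h11] at e01'
    have hk0 : h.1 0 1 ≠ 0 := by intro h0; rw [h0] at hd; simp at hd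
    have hk : h.1 0 1 = 1 := by
      have h10 : h.1 0 1 * (h.1 0 1 - 1) ^ 2 = 0 := by
        linear_combination e01' + h.1 0 1 * hd + (h.1 0 1 - h.1 0 1 ^ 2) * h2
      exact sub_eq_zero.1 ((pow_eq_zero_iff two_ne_zero).1 ((mul_eq_zero.1 h10).resolve_left hk0))
    have h10 : h = wS := by
      apply s2_ext
      · rw [h00, wS00]
      · rw [hk, wS01]
      · rw [hk] at hd; rw [wS10]; linear_combination -hd
      · rw [h11, wS11]
    rwa [h10] at hh
  refine ⟨htor, hwS, ?_, ?_⟩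
  · -- generation
    rintro ⟨g, h⟩ hgh
    set C := Subgroup.closure ({x : S2 K × S2 K | ∃ u : K, x = (Lo u, Lo (u ^ 2))} ∪ {(wS, wS)}) with hC
    have hCL : C ≤ L := by
      rw [hC, Subgroup.closure_le]
      rintro x (⟨u, rfl⟩ | hx)
      · exact hP u
      · rw [Set.mem_singleton_iff.1 hx]; exact hwS
    have h3 : C.map (MonoidHom.fst (S2 K) (S2 K)) = ⊤ :=
      gen_top (fun u => ⟨_, Subgroup.subset_closure (Or.inl ⟨u, rfl⟩), rfl⟩) (n := wS)
        ⟨_, Subgroup.subset_closure (Or.inr rfl), rfl⟩ (by rw [wS01]; exact one_ne_zero)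
    have h4 : g ∈ C.map (MonoidHom.fst (S2 K) (S2 K)) := by rw [h3]; trivial
    obtain ⟨⟨g', h'⟩, hx, hg'⟩ := h4
    have h5 : g' = g := hg'
    subst h5
    rw [inj hgh (hCL hx)]
    exact hx
  · -- Sylow
    intro Y hY hYp
    have hPL : Pg K ≤ L := by rintro _ ⟨u, rfl⟩; exact hP u
    have hPp : IsPGroup 2 ((Pg K).subgroupOf L) := isPGroup_Pg.comap_of_injective L.subtype L.subtype_injective
    obtain ⟨P', hP'⟩ := hPp.exists_le_sylow
    have hYp' : IsPGroup 2 (Y.subgroupOf L) := hYp.comap_of_injective L.subtype L.subtype_injective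
    obtain ⟨Q', hQ'⟩ := hYp'.exists_le_sylow
    -- `P' = Pg`
    have hPeq : ∀ x : L, x ∈ (P' : Subgroup L) → (x : S2 K × S2 K) ∈ Pg K := by
      have h3 := hsyl ((P' : Subgroup L).map L.subtype) (by
        rintro _ ⟨x, -, rfl⟩
        exact x.2) (P'.isPGroup'.map _)
      have h4 : Pg K ≤ (P' : Subgroup L).map L.subtype := by
        intro x hx
        exact ⟨⟨x, hPL hx⟩, hP' hx, rfl⟩
      have h5 : (P' : Subgroup L).map L.subtype = Pg K := by
        symm
        apply Subgroup.eq_of_le_of_card_ge h4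
        rw [card_Pg]
        exact h3
      intro x hx
      rw [← h5]
      exact ⟨x, hx, rfl⟩
    obtain ⟨g, hg⟩ := MulAction.exists_smul_eq L Q' P'
    refine ⟨g, g.2, fun y hy => ?_⟩
    have h3 : (g * ⟨y, hY hy⟩ * g⁻¹ : L) ∈ (P' : Subgroup L) := by
      rw [← hg, Sylow.coe_subgroup_smul]
      refine ⟨⟨y, hY hy⟩, hQ' hy, rfl⟩
    exact hPeq _ h3

end Cfsg.Agent.H297.GT.Gr
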