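import Cfsg.Agent.H297.GT.Half
import Cfsg.Agent.H297.GT.Graph
import Cfsg.Agent.H103.GT.Main

/-!
# S5211: (La2), `p = 2`, `q ≥ 8`
-/

set_option autoImplicit false

namespace Cfsg.Agent.H297.GT

open Matrix Cfsg Cfsg.FusionSystem Cfsg.Agent.H756.PU Cfsg.Agent.H779.G2

universe u

/-- (WFIN1) an element of `Γ` acting as the Weyl element on `Q_a / Z₁` can be corrected to the Weyl element -/
def StWFin1 : Prop :=
  ∀ {K : Type u} [Field K] {p n : ℕ}, HypG K p n → p ≠ 3 → 5 ≤ p ^ n →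
    ∀ (Γ : Subgroup (MulAut (Qa K))) (D : Subgroup (MulAut (GU K))), Par p (Qa K) Γ D → Full D →
    (∃ γ ∈ Γ, H889.GT.ActW γ) → ∃ γ ∈ Γ, IsWa γ

theorem wa_unique {K : Type u} [Field K] {γ δ : MulAut (Qa K)} (h : IsWa γ) (h' : IsWa δ) : γ = δ := by
  ext g : 1
  apply Subtype.ext
  apply GU.ext
  · rw [show ((γ g : Qa K) : GU K).a = 0 from (γ g).2, show ((δ g : Qa K) : GU K).a = 0 from (δ g).2]
  · rw [h.b, h'.b]
  · rw [h.c, h'.c]
  · rw [h.d, h'.d]
  · rw [h.e, h'.e]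
  · rw [h.f, h'.f]

theorem actW_of_isWa {K : Type u} [Field K] {γ : MulAut (Qa K)} (h : IsWa γ) : H889.GT.ActW γ :=
  fun g => ⟨h.b g, h.c g, h.d g, h.e g⟩

/-- the end of (La): the generation statement -/
theorem gen_of {K : Type u} [Field K] {p : ℕ} {Γ : Subgroup (MulAut (Qa K))} {D : Subgroup (MulAut (GU K))}
    (hP : Par p (Qa K) Γ D) {w : MulAut (Qa K)} (hw : w ∈ Γ) (hwa : IsWa w)
    (h : ∀ γ ∈ Γ, ∃ l ∈ Subgroup.closure ((autInducedBy (⊤ : Subgroup (GU K)) (Qa K) : Set (MulAut (Qa K))) ∪ {w}),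
      NormAut ⊤ (l * γ)) : Γ = Gen IsWa D := by
  apply le_antisymm
  · intro γ hγ
    obtain ⟨l, hl, hn⟩ := h γ hγ
    have hlG : l ∈ Gen IsWa D := by
      have h1 : Subgroup.closure ((autInducedBy (⊤ : Subgroup (GU K)) (Qa K) : Set (MulAut (Qa K))) ∪ {w}) ≤ Gen IsWa D := by
        rw [Subgroup.closure_le]
        rintro x (hx | hx)
        · exact Subgroup.subset_closure (Or.inl (Or.inl hx))
        · rw [Set.mem_singleton_iff] at hx
          subst hx
          exact Subgroup.subset_closure (Or.inl (Or.inr hwa))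
      exact h1 hl
    have hlΓ : l ∈ Γ := by
      have h1 : Subgroup.closure ((autInducedBy (⊤ : Subgroup (GU K)) (Qa K) : Set (MulAut (Qa K))) ∪ {w}) ≤ Γ := by
        rw [Subgroup.closure_le]
        rintro x (hx | hx)
        · exact hP.indu hx
        · rw [Set.mem_singleton_iff.1 hx]; exact hw
      exact h1 hl
    obtain ⟨x, d, hd, hx⟩ := hP.norm _ (mul_mem hlΓ hγ) hn
    -- `l γ = c_x d|`
    have hdQ : ∀ e : Qa K, d e ∈ Qa K := by
      intro e
      have h1 : x * d e * x⁻¹ ∈ Qa K := by rw [← hx]; exact SetLike.coe_mem _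
      have h2 := conj_mem_Qa x⁻¹ h1
      rwa [show x⁻¹ * (x * d e * x⁻¹) * x⁻¹⁻¹ = d e by group] at h2
    have hdr : IsR d ((cjx x)⁻¹ * (l * γ)) := by
      intro e
      have h1 : (cjx x) (⟨d e, hdQ e⟩ : Qa K) = (l * γ) e := by
        apply Subtype.ext
        rw [cjx_apply, hx]
      rw [MulAut.mul_apply, ← h1, MulAut.inv_apply_self]
    have h3 : (cjx x)⁻¹ * (l * γ) ∈ Gen IsWa D := Subgroup.subset_closure (Or.inr ⟨d, hd, hdr⟩)
    have h4 : cjx x ∈ Gen IsWa D := Subgroup.subset_closure (Or.inl (Or.inl (ind_mem (cjx_apply x))))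
    have h5 := mul_mem (mul_mem (inv_mem hlG) h4) h3
    rwa [show l⁻¹ * cjx x * ((cjx x)⁻¹ * (l * γ)) = γ by group] at h5
  · rw [Gen, Subgroup.closure_le]
    rintro γ ((hγ | hγ) | ⟨d, hd, hγ⟩)
    · exact hP.indu hγ
    · rw [wa_unique hγ hwa]; exact hw
    · exact hP.D_res d hd γ hγ

/-- **(La2)** from the group theory, (SEM) and (WFIN1) -/
theorem stLaTwo_of (hG : StGraph.{u}) (hS : StSem.{u}) (hW : StWFin1.{u}) : H103.GT.StLaTwo.{u} := by
  intro K _ n hK hq Γ D hP _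
  have hn : 2 ≤ n := by
    by_contra h
    have h1 : n ≤ 1 := by omega
    have : 2 ^ n ≤ 2 ^ 1 := Nat.pow_le_pow_right (by norm_num) h1
    omega
  obtain ⟨h1, h2, h3⟩ := stHalf hG hS hK hn Γ D hP
  refine ⟨h1, fun hF => ?_⟩
  obtain ⟨w, hw, hwa⟩ := hW hK (by norm_num) (by omega) Γ D hP hF h2
  exact gen_of hP hw hwa fun γ hγ => h3 w hw (actW_of_isWa hwa) γ hγ

/-- the first half of (La2), given (SEM) -/
theorem stHalf' (hS : StSem.{u}) : H889.GT.StHalf.{u} := stHalf Gr.stGraph hS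

/-- **(La2)** from (SEM) and (WFIN1) -/
theorem stLaTwo (hS : StSem.{u}) (hW : StWFin1.{u}) : H103.GT.StLaTwo.{u} := stLaTwo_of Gr.stGraph hS hW

end Cfsg.Agent.H297.GT
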