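import Cfsg.Agent.H297.GT.Lin
import Cfsg.Agent.H779.G2.Stmts3
import Cfsg.Agent.H103.GT.Coord

/-!
# S5211, (La2): the action of automorphisms of `Q_a` on `Q_a / Z₁ = M₂(K)`, `p = 2`
-/

set_option autoImplicit false

namespace Cfsg.Agent.H297.GT

open Matrix Cfsg Cfsg.FusionSystem Cfsg.Agent.H756.PU Cfsg.Agent.H779.G2

universe u

variable {K : Type u} [Field K]

/-- the matrix of an element of `Q_a` -/
def cm (g : Qa K) : M2 K := !![(g : GU K).b, (g : GU K).d; (g : GU K).c, (g : GU K).e]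

theorem cm_mul (g h : Qa K) : cm (g * h) = cm g + cm h := by
  have h2 : (h : GU K).a = 0 := h.2
  apply m2_ext <;> simp [cm, h2]

theorem cm_one : cm (1 : Qa K) = 0 := by
  apply m2_ext <;> simp [cm]

/-- representatives -/
def rp (X : M2 K) : Qa K := ⟨⟨0, X 0 0, X 1 0, X 0 1, X 1 1, 0⟩, rfl⟩

theorem cm_rp (X : M2 K) : cm (rp X) = X := by
  apply m2_ext <;> simp [cm, rp]

/-- the elements of `Z₁` -/
def zz (f : K) : Qa K := ⟨⟨0, 0, 0, 0, 0, f⟩, rfl⟩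

theorem eq_zz {g : Qa K} (h : cm g = 0) : g = zz (g : GU K).f := by
  have h0 := congrFun (congrFun h 0) 0
  have h1 := congrFun (congrFun h 0) 1
  have h2 := congrFun (congrFun h 1) 0
  have h3 := congrFun (congrFun h 1) 1
  apply Subtype.ext
  apply GU.ext
  · exact g.2
  · exact h0
  · exact h2
  · exact h1
  · exact h3
  · rfl

theorem cm_zz (f : K) : cm (zz f) = 0 := by
  apply m2_ext <;> simp [cm, zz]

theorem zz_mul (f f' : K) : zz f * zz f' = zz (f + f') := by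
  apply Subtype.ext
  apply GU.ext <;> simp [zz]

theorem cm_inv (g : Qa K) : cm g⁻¹ = - cm g := by
  have h := cm_mul g g⁻¹
  rw [mul_inv_cancel, cm_one] at h
  exact (neg_eq_of_add_eq_zero_right h.symm).symm

/-- squares, characteristic two -/
theorem sq_eq [CharP K 2] (g : Qa K) : g * g = zz (cm g).det := by
  have h2 : (2 : K) = 0 := CharTwo.two_eq_zero
  have ha : (g : GU K).a = 0 := g.2
  apply Subtype.ext
  rw [Subgroup.coe_mul]
  apply GU.ext
  · simp [zz, ha]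
  · simp only [GU.mul_b, zz]; linear_combination (g : GU K).b * h2
  · simp only [GU.mul_c, zz, ha]; linear_combination (g : GU K).c * h2
  · simp only [GU.mul_d, zz, ha]; linear_combination (g : GU K).d * h2
  · simp only [GU.mul_e, zz, ha]; linear_combination (g : GU K).e * h2
  · simp only [GU.mul_f, zz, ha, cm, Matrix.det_fin_two_of]
    linear_combination ((g : GU K).f + 2 * (g : GU K).d * (g : GU K).c - (g : GU K).e * (g : GU K).b) * h2

/-- `γ` acts as `X ↦ A X Bᵀ` -/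
def Rep (γ : MulAut (Qa K)) (A B : S2 K) : Prop :=
  ∀ g : Qa K, cm (γ g) = (A : M2 K) * cm g * (B : M2 K)ᵀ

theorem Rep.one : Rep (1 : MulAut (Qa K)) 1 1 := fun g => by simp

theorem Rep.mul {γ δ : MulAut (Qa K)} {A B A' B' : S2 K} (h : Rep γ A B) (h' : Rep δ A' B') :
    Rep (γ * δ) (A * A') (B * B') := fun g => by
  rw [MulAut.mul_apply, h, h', Matrix.SpecialLinearGroup.coe_mul, Matrix.SpecialLinearGroup.coe_mul,
    Matrix.transpose_mul]
  simp only [Matrix.mul_assoc]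

theorem s2_inv_mul (A : S2 K) : ((A⁻¹ : S2 K) : M2 K) * (A : M2 K) = 1 := by
  rw [← Matrix.SpecialLinearGroup.coe_mul, inv_mul_cancel, Matrix.SpecialLinearGroup.coe_one]

theorem s2_mul_inv (A : S2 K) : (A : M2 K) * ((A⁻¹ : S2 K) : M2 K) = 1 := by
  rw [← Matrix.SpecialLinearGroup.coe_mul, mul_inv_cancel, Matrix.SpecialLinearGroup.coe_one]

theorem Rep.inv {γ : MulAut (Qa K)} {A B : S2 K} (h : Rep γ A B) : Rep γ⁻¹ A⁻¹ B⁻¹ := fun g => by
  have h1 := h (γ⁻¹ g)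
  rw [MulAut.apply_inv_self] at h1
  have h2 : (B : M2 K)ᵀ * ((B⁻¹ : S2 K) : M2 K)ᵀ = 1 := by
    rw [← Matrix.transpose_mul, s2_inv_mul, Matrix.transpose_one]
  calc cm (γ⁻¹ g) = (((A⁻¹ : S2 K) : M2 K) * (A : M2 K)) * cm (γ⁻¹ g) * ((B : M2 K)ᵀ * ((B⁻¹ : S2 K) : M2 K)ᵀ) := by
        rw [s2_inv_mul, h2]; simp
    _ = ((A⁻¹ : S2 K) : M2 K) * ((A : M2 K) * cm (γ⁻¹ g) * (B : M2 K)ᵀ) * ((B⁻¹ : S2 K) : M2 K)ᵀ := by
        simp only [Matrix.mul_assoc]
    _ = _ := by rw [← h1]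

theorem Rep.pow {γ : MulAut (Qa K)} {A B : S2 K} (h : Rep γ A B) (n : ℕ) : Rep (γ ^ n) (A ^ n) (B ^ n) := by
  induction n with
  | zero => rw [pow_zero, pow_zero, pow_zero]; exact Rep.one
  | succ n ih => rw [pow_succ, pow_succ, pow_succ]; exact ih.mul h

theorem Rep.unique [CharP K 2] {γ δ : MulAut (Qa K)} {A B A' B' : S2 K} (h : Rep γ A B) (h' : Rep δ A' B')
    (he : ∀ g, cm (γ g) = cm (δ g)) : A = A' ∧ B = B' := by
  apply ten_unique
  intro X
  have h1 := h (rp X)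
  have h2 := h' (rp X)
  rw [cm_rp] at h1 h2
  rw [← h1, ← h2, he]

/-- an automorphism trivial on `Q_a/Z₁` has order dividing two -/
theorem sq_of_triv [CharP K 2] {γ : MulAut (Qa K)} (h : ∀ g, cm (γ g) = cm g) : γ * γ = 1 := by
  have h2 : (2 : K) = 0 := CharTwo.two_eq_zero
  -- trivial on `Z₁`
  have hz : ∀ f : K, γ (zz f) = zz f := by
    intro f
    have h1 := sq_eq (rp (!![f, 0; 0, 1] : M2 K))
    have h3 : (cm (rp (!![f, 0; 0, 1] : M2 K))).det = f := by rw [cm_rp, Matrix.det_fin_two_of]; ring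
    rw [h3] at h1
    rw [← h1, map_mul, sq_eq, h, h3, h1]
  ext g : 1
  rw [MulAut.mul_apply, MulAut.one_apply]
  -- `γ g = g z`
  obtain ⟨z, hz1⟩ : ∃ f, γ g = g * zz f := by
    refine ⟨((g⁻¹ * γ g : Qa K) : GU K).f, ?_⟩
    have h1 : cm (g⁻¹ * γ g) = 0 := by rw [cm_mul, cm_inv, h]; simp
    rw [← eq_zz h1]
    group
  rw [hz1, map_mul, hz, hz1, mul_assoc, zz_mul]
  have h3 : z + z = 0 := by linear_combination z * h2
  have h4 : zz (0 : K) = 1 := Subtype.ext rfl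
  rw [h3, h4, mul_one]

/-- conjugation by `x` -/
theorem rep_conj [CharP K 2] {γ : MulAut (Qa K)} {x : GU K} (h : ∀ e : Qa K, ((γ e : Qa K) : GU K) = x * e * x⁻¹) :
    Rep γ (Lo x.a) (Lo (x.a ^ 2)) := by
  have h2 : (2 : K) = 0 := CharTwo.two_eq_zero
  intro g
  have ha : (g : GU K).a = 0 := g.2
  apply m2_ext <;> rw [mul3] <;> simp only [cm, h, Lo, Matrix.of_apply, Matrix.cons_val', Matrix.cons_val_zero,
    Matrix.cons_val_one, Matrix.cons_val_fin_one]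
  · rw [H103.GT.cj_b]; ring
  · rw [H103.GT.cj_d, ha]; linear_combination (-x.a * (g : GU K).c) * h2
  · rw [H103.GT.cj_c, ha]; linear_combination (-x.a * (g : GU K).b) * h2
  · rw [H103.GT.cj_e, ha]
    linear_combination (-2 * x.a * (g : GU K).d + x.a ^ 2 * (g : GU K).c - x.a ^ 3 * (g : GU K).b) * h2

/-- the elements of `Aut_S(Q_a)` are conjugations -/
theorem mem_ind {γ : MulAut (Qa K)} (h : γ ∈ autInducedBy (⊤ : Subgroup (GU K)) (Qa K)) :
    ∃ x : GU K, ∀ e : Qa K, ((γ e : Qa K) : GU K) = x * e * x⁻¹ := by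
  unfold autInducedBy at h
  induction h using Subgroup.closure_induction with
  | mem γ h => obtain ⟨x, -, hx⟩ := h; exact ⟨x, hx⟩
  | one => exact ⟨1, fun e => by simp⟩
  | mul γ δ _ _ h1 h2 =>
    obtain ⟨x, hx⟩ := h1
    obtain ⟨y, hy⟩ := h2
    exact ⟨x * y, fun e => by rw [MulAut.mul_apply, hx, hy]; group⟩
  | inv γ _ h1 =>
    obtain ⟨x, hx⟩ := h1
    refine ⟨x⁻¹, fun e => ?_⟩
    have h3 := hx (γ⁻¹ e)
    rw [MulAut.apply_inv_self] at h3
    rw [h3]; group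

theorem ind_mem {γ : MulAut (Qa K)} {x : GU K} (h : ∀ e : Qa K, ((γ e : Qa K) : GU K) = x * e * x⁻¹) :
    γ ∈ autInducedBy (⊤ : Subgroup (GU K)) (Qa K) :=
  Subgroup.subset_closure ⟨x, trivial, h⟩

theorem conj_mem_Qa (x : GU K) {e : GU K} (he : e ∈ Qa K) : x * e * x⁻¹ ∈ Qa K := by
  show (x * e * x⁻¹).a = 0
  rw [H103.GT.cj_a]; exact he

/-- conjugation by `x` on `Q_a` -/
def cjx (x : GU K) : MulAut (Qa K) where
  toFun e := ⟨x * e * x⁻¹, conj_mem_Qa x e.2⟩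
  invFun e := ⟨x⁻¹ * e * x, by have := conj_mem_Qa x⁻¹ e.2; rwa [inv_inv] at this⟩
  left_inv e := Subtype.ext (by show x⁻¹ * (x * e * x⁻¹) * x = e; group)
  right_inv e := Subtype.ext (by show x * (x⁻¹ * e * x) * x⁻¹ = e; group)
  map_mul' e f := Subtype.ext (by show x * (e * f) * x⁻¹ = (x * e * x⁻¹) * (x * f * x⁻¹); group)

theorem cjx_apply (x : GU K) (e : Qa K) : ((cjx x e : Qa K) : GU K) = x * e * x⁻¹ := rfl

/-- the root element `x_α(u)` -/
def xa (u : K) : GU K := ⟨u, 0, 0, 0, 0, 0⟩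

theorem rep_xa [CharP K 2] (u : K) : Rep (cjx (xa u)) (Lo u) (Lo (u ^ 2)) := rep_conj (x := xa u) (cjx_apply _)

/-- the structure of the action of an arbitrary automorphism -/
theorem exists_semi (hS : StSem.{u}) {n : ℕ} (hK : HypG K 2 n) (γ : MulAut (Qa K)) :
    ∃ (τ : K ≃+* K) (A B : M2 K), A.det ≠ 0 ∧ B.det ≠ 0 ∧
      ((∀ g, cm (γ g) = A * (cm g).map τ * Bᵀ) ∨ (∀ g, cm (γ g) = A * ((cm g).map τ)ᵀ * Bᵀ)) := by
  have hc := hK.char
  obtain ⟨τ, M, m, hm, h1, h2, h3, h4, h5⟩ := hS hK (by norm_num) γ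
  let T : M2 K →ₗ[K] M2 K :=
    { toFun := fun X => !![M 0 0 * X 0 0 + M 0 1 * X 1 0 + M 0 2 * X 0 1 + M 0 3 * X 1 1,
          M 2 0 * X 0 0 + M 2 1 * X 1 0 + M 2 2 * X 0 1 + M 2 3 * X 1 1;
          M 1 0 * X 0 0 + M 1 1 * X 1 0 + M 1 2 * X 0 1 + M 1 3 * X 1 1,
          M 3 0 * X 0 0 + M 3 1 * X 1 0 + M 3 2 * X 0 1 + M 3 3 * X 1 1]
      map_add' := fun X Y => by
        apply m2_ext <;> simp <;> ring
      map_smul' := fun a X => by
        apply m2_ext <;> simp <;> ring }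
  have hT : ∀ g, cm (γ g) = T ((cm g).map τ) := by
    intro g
    apply m2_ext
    · exact h1 g
    · exact h3 g
    · exact h2 g
    · exact h4 g
  have hdet : ∀ X, (T X).det = m * X.det := by
    intro X
    have h6 : X = (cm (rp (X.map τ.symm))).map τ := by
      rw [cm_rp]
      apply m2_ext <;> simp
    have h7 := sq_eq (rp (X.map τ.symm))
    have h8 : γ (rp (X.map τ.symm)) * γ (rp (X.map τ.symm)) = γ (zz (cm (rp (X.map τ.symm))).det) := by
      rw [← map_mul, h7]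
    rw [sq_eq, hT, ← h6] at h8
    have h9 := h5 (zz (cm (rp (X.map τ.symm))).det) ⟨rfl, rfl, rfl, rfl, rfl⟩
    rw [← h8] at h9
    have h10 : (T X).det = m * τ (cm (rp (X.map τ.symm))).det := h9.2
    rw [h10, cm_rp]
    congr 1
    rw [Matrix.det_fin_two, Matrix.det_fin_two]
    simp
  obtain ⟨A, B, hA, hB, h⟩ := exists_ten T hm hdet
  refine ⟨τ, A, B, hA, hB, ?_⟩
  rcases h with h | h
  · left; intro g; rw [hT, h]
  · right; intro g; rw [hT, h]

/-- conjugation of `SL₂` by a semilinear map -/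
noncomputable def cjS (τ : K ≃+* K) (A : M2 K) (hA : A.det ≠ 0) (s : S2 K) : S2 K :=
  ⟨A * (s : M2 K).map τ * A⁻¹, by
    have h1 : A * A⁻¹ = 1 := Matrix.mul_nonsing_inv _ (isUnit_iff_ne_zero.2 hA)
    have h2 := congrArg Matrix.det h1
    rw [Matrix.det_mul, Matrix.det_one] at h2
    have h3 : ((s : M2 K).map τ).det = 1 := by
      have h4 := s.2
      rw [Matrix.det_fin_two] at h4 ⊢
      simp only [Matrix.map_apply]
      rw [← map_mul, ← map_mul, ← map_sub, h4, map_one]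
    rw [Matrix.det_mul, Matrix.det_mul, h3, mul_one, h2]⟩

theorem map_mul3 (τ : K ≃+* K) (A X B : M2 K) : (A * X * Bᵀ).map τ = A.map τ * X.map τ * (B.map τ)ᵀ := by
  rw [show (B.map τ)ᵀ = Bᵀ.map τ from rfl]
  have h : ∀ P Q : M2 K, (P * Q).map τ = P.map τ * Q.map τ := fun P Q => Matrix.map_mul (f := (τ : K →+* K))
  rw [h, h]

/-- conjugates of elements with `Rep` -/
theorem rep_cj (hS : StSem.{u}) {n : ℕ} (hK : HypG K 2 n) (γ : MulAut (Qa K)) :
    ∃ f : S2 K → S2 K → S2 K × S2 K, ∀ (δ : MulAut (Qa K)) (s t : S2 K), Rep δ s t →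
      Rep (γ * δ * γ⁻¹) (f s t).1 (f s t).2 := by
  obtain ⟨τ, A, B, hA, hB, h⟩ := exists_semi hS hK γ
  have hA1 : A⁻¹ * A = 1 := Matrix.nonsing_inv_mul _ (isUnit_iff_ne_zero.2 hA)
  have hB1 : B⁻¹ * B = 1 := Matrix.nonsing_inv_mul _ (isUnit_iff_ne_zero.2 hB)
  have hB2 : Bᵀ * (B⁻¹)ᵀ = 1 := by rw [← Matrix.transpose_mul, hB1, Matrix.transpose_one]
  rcases h with h | h
  · refine ⟨fun s t => (cjS τ A hA s, cjS τ B hB t), fun δ s t hδ g => ?_⟩
    obtain ⟨k, rfl⟩ := γ.surjective g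
    rw [MulAut.mul_apply, MulAut.mul_apply, MulAut.inv_apply_self, h, hδ, h, map_mul3]
    show _ = (A * (s : M2 K).map τ * A⁻¹) * (A * (cm k).map τ * Bᵀ) * (B * (t : M2 K).map τ * B⁻¹)ᵀ
    rw [Matrix.transpose_mul, Matrix.transpose_mul]
    calc A * ((s : M2 K).map τ * (cm k).map τ * ((t : M2 K).map τ)ᵀ) * Bᵀ
        = A * (s : M2 K).map τ * 1 * (cm k).map τ * 1 * ((t : M2 K).map τ)ᵀ * Bᵀ := by
          simp only [Matrix.mul_assoc, Matrix.mul_one, Matrix.one_mul]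
      _ = A * (s : M2 K).map τ * (A⁻¹ * A) * (cm k).map τ * (Bᵀ * (B⁻¹)ᵀ) * ((t : M2 K).map τ)ᵀ * Bᵀ := by
          rw [hA1, hB2]
      _ = _ := by simp only [Matrix.mul_assoc]
  · refine ⟨fun s t => (cjS τ A hA t, cjS τ B hB s), fun δ s t hδ g => ?_⟩
    obtain ⟨k, rfl⟩ := γ.surjective g
    rw [MulAut.mul_apply, MulAut.mul_apply, MulAut.inv_apply_self, h, hδ, h, map_mul3]
    show _ = (A * (t : M2 K).map τ * A⁻¹) * (A * ((cm k).map τ)ᵀ * Bᵀ) * (B * (s : M2 K).map τ * B⁻¹)ᵀ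
    rw [Matrix.transpose_mul, Matrix.transpose_mul, Matrix.transpose_mul, Matrix.transpose_mul, Matrix.transpose_transpose]
    calc A * ((t : M2 K).map τ * (((cm k).map τ)ᵀ * ((s : M2 K).map τ)ᵀ)) * Bᵀ
        = A * (t : M2 K).map τ * 1 * ((cm k).map τ)ᵀ * 1 * ((s : M2 K).map τ)ᵀ * Bᵀ := by
          simp only [Matrix.mul_assoc, Matrix.mul_one, Matrix.one_mul]
      _ = A * (t : M2 K).map τ * (A⁻¹ * A) * ((cm k).map τ)ᵀ * (Bᵀ * (B⁻¹)ᵀ) * ((s : M2 K).map τ)ᵀ * Bᵀ := by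
          rw [hA1, hB2]
      _ = _ := by simp only [Matrix.mul_assoc]

end Cfsg.Agent.H297.GT
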