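import Mathlib

/-!
# S5211, (La2): the group theory interface, subgroups of `SL₂(K) × SL₂(K)`, `q = 2ⁿ ≥ 4`
-/

set_option autoImplicit false

namespace Cfsg.Agent.H297.GT

universe u

variable {K : Type u} [Field K]

/-- `SL₂(K)` -/
abbrev S2 (K : Type u) [Field K] := Matrix.SpecialLinearGroup (Fin 2) K

/-- lower unipotent matrices -/
def Lo (u : K) : S2 K := ⟨!![1, 0; u, 1], by simp [Matrix.det_fin_two_of]⟩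

/-- the diagonal matrices `diag(l⁻¹, l)` -/
def dg (l : Kˣ) : S2 K := ⟨!![((l⁻¹ : Kˣ) : K), 0; 0, (l : K)], by simp [Matrix.det_fin_two_of]⟩

/-- the Weyl element -/
def wS : S2 K := ⟨!![0, 1; -1, 0], by simp [Matrix.det_fin_two_of]⟩

/-- the group theory half of (La2) -/
def StGraph : Prop :=
  ∀ {K : Type u} [Field K] [Finite K] [CharP K 2], 4 ≤ Nat.card K → ∀ L : Subgroup (S2 K × S2 K),
    (∀ u : K, (Lo u, Lo (u ^ 2)) ∈ L) →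
    (∀ Y : Subgroup (S2 K × S2 K), Y ≤ L → IsPGroup 2 Y → Nat.card Y ≤ Nat.card K) →
    L ≤ Subgroup.closure {x | x ∈ L ∧ ∃ k : ℕ, x ^ 2 ^ k = 1} →
    (∃ x ∈ L, ∀ u : K, x ≠ (Lo u, Lo (u ^ 2))) →
    (∀ x ∈ L, (∀ u : K, ∃ v : K, x * (Lo u, Lo (u ^ 2)) * x⁻¹ = (Lo v, Lo (v ^ 2))) →
      ∃ (u : K) (l : Kˣ), x = (Lo u * dg l, Lo (u ^ 2) * dg (l ^ 2))) →
    (∀ l : Kˣ, (dg l, dg (l ^ 2)) ∈ L) ∧ ((wS, wS) : S2 K × S2 K) ∈ L ∧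
    L ≤ Subgroup.closure ({x | ∃ u : K, x = (Lo u, Lo (u ^ 2))} ∪ {(wS, wS)}) ∧
    ∀ Y : Subgroup (S2 K × S2 K), Y ≤ L → IsPGroup 2 Y → ∃ l ∈ L, ∀ y ∈ Y, ∃ u : K, l * y * l⁻¹ = (Lo u, Lo (u ^ 2))

end Cfsg.Agent.H297.GT
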