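import Cfsg.Agent.H297.GT.Act
import Cfsg.Agent.H103.GT.Grp
import Cfsg.Agent.H889.GT.Half

/-!
# S5211, (La2): the first half, from the group theory statement `StGraph`
-/

set_option autoImplicit false

namespace Cfsg.Agent.H297.GT

open Matrix Cfsg Cfsg.FusionSystem Cfsg.Agent.H756.PU Cfsg.Agent.H779.G2

universe u

variable {K : Type u} [Field K]

theorem Lo_mul (u v : K) : Lo u * Lo v = Lo (u + v) := by
  apply Subtype.ext
  rw [Matrix.SpecialLinearGroup.coe_mul]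
  apply m2_ext <;> simp [Lo]

theorem Lo_zero : Lo (0 : K) = 1 := by
  apply Subtype.ext
  apply m2_ext <;> simp [Lo]

theorem Lo_inj {u v : K} (h : Lo u = Lo v) : u = v := by
  have := congrArg (fun s : S2 K => (s : M2 K) 1 0) h
  simpa [Lo] using this

/-- conjugates of `Aut_S(Q_a)` -/
def Lc (Γ : Subgroup (MulAut (Qa K))) : Subgroup (MulAut (Qa K)) :=
  Subgroup.closure {y | ∃ γ ∈ Γ, ∃ x ∈ autInducedBy (⊤ : Subgroup (GU K)) (Qa K), y = γ * x * γ⁻¹}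

/-- the image in `SL₂ × SL₂` -/
def Lh (Γ : Subgroup (MulAut (Qa K))) : Subgroup (S2 K × S2 K) where
  carrier := {z | ∃ y ∈ Lc Γ, Rep y z.1 z.2}
  one_mem' := ⟨1, one_mem _, Rep.one⟩
  mul_mem' := by
    rintro z z' ⟨y, hy, h⟩ ⟨y', hy', h'⟩
    exact ⟨y * y', mul_mem hy hy', h.mul h'⟩
  inv_mem' := by
    rintro z ⟨y, hy, h⟩
    exact ⟨y⁻¹, inv_mem hy, h.inv⟩

theorem ind_rep [CharP K 2] {x : MulAut (Qa K)} (hx : x ∈ autInducedBy (⊤ : Subgroup (GU K)) (Qa K)) :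
    ∃ u : K, Rep x (Lo u) (Lo (u ^ 2)) := by
  obtain ⟨y, hy⟩ := mem_ind hx
  exact ⟨_, rep_conj hy⟩

section par

variable {n : ℕ} {Γ : Subgroup (MulAut (Qa K))} {D : Subgroup (MulAut (GU K))}

theorem Lc_le (hP : Par 2 (Qa K) Γ D) : Lc Γ ≤ Γ := by
  rw [Lc, Subgroup.closure_le]
  rintro _ ⟨γ, hγ, x, hx, rfl⟩
  exact Γ.mul_mem (Γ.mul_mem hγ (hP.indu hx)) (Γ.inv_mem hγ)

theorem ind_le_Lc (Γ : Subgroup (MulAut (Qa K))) : autInducedBy (⊤ : Subgroup (GU K)) (Qa K) ≤ Lc Γ := by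
  intro x hx
  exact Subgroup.subset_closure ⟨1, one_mem _, x, hx, by group⟩

/-- action of a conjugate -/
theorem cj_triv (hS : StSem.{u}) (hK : HypG K 2 n) (γ : MulAut (Qa K)) {δ ε : MulAut (Qa K)}
    (h : ∀ g, cm (δ g) = cm (ε g)) (g : Qa K) : cm ((γ * δ * γ⁻¹) g) = cm ((γ * ε * γ⁻¹) g) := by
  obtain ⟨τ, A, B, -, -, h1⟩ := exists_semi hS hK γ
  rw [MulAut.mul_apply, MulAut.mul_apply, MulAut.mul_apply, MulAut.mul_apply]
  rcases h1 with h1 | h1
  · rw [h1, h1, h]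
  · rw [h1, h1, h]

/-- the elements of `Γ` which are trivial on `Q_a / Z₁` are in `Aut_S(Q_a)` -/
theorem triv_mem (hS : StSem.{u}) (hK : HypG K 2 n) (hP : Par 2 (Qa K) Γ D) {γ : MulAut (Qa K)} (hγ : γ ∈ Γ)
    (h : ∀ g, cm (γ g) = cm g) : γ ∈ autInducedBy (⊤ : Subgroup (GU K)) (Qa K) := by
  have hc := hK.char
  let Ker : Subgroup (MulAut (Qa K)) :=
    { carrier := {δ | δ ∈ Γ ∧ ∀ g, cm (δ g) = cm g}
      one_mem' := ⟨one_mem _, fun g => rfl⟩
      mul_mem' := by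
        rintro a b ⟨ha, ha'⟩ ⟨hb, hb'⟩
        exact ⟨mul_mem ha hb, fun g => by rw [MulAut.mul_apply, ha', hb']⟩
      inv_mem' := by
        rintro a ⟨ha, ha'⟩
        refine ⟨inv_mem ha, fun g => ?_⟩
        have := ha' (a⁻¹ g)
        rw [MulAut.apply_inv_self] at this
        exact this.symm }
  obtain ⟨g, hg, hgx⟩ := hP.syl Ker (fun x hx => hx.1) (by
    rintro ⟨x, hx⟩
    refine ⟨1, Subtype.ext ?_⟩
    show x ^ 2 ^ 1 = 1
    rw [pow_one, sq]
    exact sq_of_triv hx.2)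
  have h1 : g⁻¹ * γ * g ∈ Ker := by
    refine ⟨mul_mem (mul_mem (inv_mem hg) hγ) hg, fun e => ?_⟩
    have h2 := cj_triv hS hK g⁻¹ (δ := γ) (ε := 1) h e
    rw [inv_inv] at h2
    rw [h2]
    simp
  have h2 := hgx _ h1
  have h3 : g * (g⁻¹ * γ * g) * g⁻¹ = γ := by group
  rwa [h3] at h2

/-- the elements of `Γ` acting as root elements are in `Aut_S(Q_a)` -/
theorem mem_of_rep (hS : StSem.{u}) (hK : HypG K 2 n) (hP : Par 2 (Qa K) Γ D) {γ : MulAut (Qa K)} (hγ : γ ∈ Γ)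
    {u : K} (h : Rep γ (Lo u) (Lo (u ^ 2))) : γ ∈ autInducedBy (⊤ : Subgroup (GU K)) (Qa K) := by
  have hc := hK.char
  have h1 : cjx (xa u) ∈ autInducedBy (⊤ : Subgroup (GU K)) (Qa K) := ind_mem (cjx_apply _)
  have h2 : γ * (cjx (xa u))⁻¹ ∈ autInducedBy (⊤ : Subgroup (GU K)) (Qa K) := by
    refine triv_mem hS hK hP (mul_mem hγ (inv_mem (hP.indu h1))) fun g => ?_
    have h3 := (h.mul (rep_xa u).inv) g
    rw [mul_inv_cancel, mul_inv_cancel] at h3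
    rw [h3]
    simp
  have h3 := mul_mem h2 h1
  rwa [inv_mul_cancel_right] at h3

/-- every element of `Lc` has a representation -/
theorem Lc_rep (hS : StSem.{u}) (hK : HypG K 2 n) {y : MulAut (Qa K)} (hy : y ∈ Lc Γ) : ∃ A B, Rep y A B := by
  have hc := hK.char
  unfold Lc at hy
  induction hy using Subgroup.closure_induction with
  | mem y h =>
    obtain ⟨γ, -, x, hx, rfl⟩ := h
    obtain ⟨u, hu⟩ := ind_rep hx
    obtain ⟨f, hf⟩ := rep_cj hS hK γ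
    exact ⟨_, _, hf _ _ _ hu⟩
  | one => exact ⟨1, 1, Rep.one⟩
  | mul a b _ _ h1 h2 =>
    obtain ⟨A, B, h1⟩ := h1
    obtain ⟨A', B', h2⟩ := h2
    exact ⟨_, _, h1.mul h2⟩
  | inv a _ h1 =>
    obtain ⟨A, B, h1⟩ := h1
    exact ⟨_, _, h1.inv⟩

/-- the fourth power of an element of `Aut_S(Q_a)` -/
theorem ind_pow [CharP K 2] {x : MulAut (Qa K)} (hx : x ∈ autInducedBy (⊤ : Subgroup (GU K)) (Qa K)) : x ^ 2 ^ 2 = 1 := by
  have h2 : (2 : K) = 0 := CharTwo.two_eq_zero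
  obtain ⟨u, hu⟩ := ind_rep hx
  have h1 := hu.mul hu
  rw [Lo_mul, Lo_mul] at h1
  have e1 : u + u = 0 := by linear_combination u * h2
  have e2 : u ^ 2 + u ^ 2 = 0 := by linear_combination u ^ 2 * h2
  rw [e1, e2, Lo_zero] at h1
  have h3 := sq_of_triv (γ := x * x) (fun g => by rw [h1 g]; simp)
  rw [show 2 ^ 2 = 2 * 2 from rfl, pow_mul, sq, sq]
  exact h3

/-- elements of `Γ` normalising: standard form -/
theorem norm_form (hK : HypG K 2 n) (hP : Par 2 (Qa K) Γ D) {γ : MulAut (Qa K)} (hγ : γ ∈ Γ) (hn : NormAut ⊤ γ)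
    {A B : S2 K} (h : Rep γ A B) : ∃ (u : K) (l : Kˣ), A = Lo u * dg l ∧ B = Lo (u ^ 2) * dg (l ^ 2) ∧
      ∃ d ∈ D, IsTor d ((l : K) ^ 2) (((l : K) ^ 3)⁻¹) (RingEquiv.refl K) := by
  have hc := hK.char
  have h2 : (2 : K) = 0 := CharTwo.two_eq_zero
  obtain ⟨x, d, hd, hx⟩ := hP.norm γ hγ hn
  obtain ⟨-, -, -, -, hTT, -, -⟩ := H103.GT.stGrp hK
  -- `d` is a torus element
  obtain ⟨s, t, τ, hT⟩ : ∃ s t τ, IsTor d s t τ := by
    rcases hTT d (hP.D_le hd) with h | ⟨-, -, -, -, ρ, -, hρ, -⟩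
    · exact h
    · exfalso
      have h3 := hρ.three
      have : (1 : K) = 0 := by linear_combination h3 - h2
      exact one_ne_zero this
  have hs := hT.ne1
  have ht := hT.ne2
  -- the action
  have hact : ∀ X : M2 K, ((Lo x.a)⁻¹ * A : S2 K) * X * (((Lo (x.a ^ 2))⁻¹ * B : S2 K) : M2 K)ᵀ =
      !![t * τ (X 0 0), s ^ 2 * t * τ (X 0 1); s * t * τ (X 1 0), s ^ 3 * t * τ (X 1 1)] := by
    intro X
    -- the restriction of `d`
    have hdQ : ∀ e : Qa K, d e ∈ Qa K := by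
      intro e
      show (d e).a = 0
      rw [hT.a]
      have : (e : GU K).a = 0 := e.2
      rw [this]; simp
    have h3 : cm (γ (rp X)) = (Lo x.a : M2 K) *
        !![t * τ (X 0 0), s ^ 2 * t * τ (X 0 1); s * t * τ (X 1 0), s ^ 3 * t * τ (X 1 1)] * (Lo (x.a ^ 2) : M2 K)ᵀ := by
      have h4 : γ (rp X) = cjx x ⟨d (rp X), hdQ _⟩ := by
        apply Subtype.ext
        rw [hx, cjx_apply]
      have h5 := rep_conj (cjx_apply x) ⟨d (rp X), hdQ _⟩
      rw [h4, h5]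
      congr 2
      apply m2_ext
      · show (d (rp X)).b = _
        rw [hT.b]; simp [rp]
      · show (d (rp X)).d = _
        rw [hT.d]; simp [rp]
      · show (d (rp X)).c = _
        rw [hT.c]; simp [rp]
      · show (d (rp X)).e = _
        rw [hT.e]; simp [rp]
    have h6 := h (rp X)
    rw [cm_rp, h3] at h6
    have h7 : (((Lo (x.a ^ 2)) : S2 K) : M2 K)ᵀ * (((Lo (x.a ^ 2))⁻¹ : S2 K) : M2 K)ᵀ = 1 := by
      rw [← Matrix.transpose_mul, s2_inv_mul, Matrix.transpose_one]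
    calc (((Lo x.a)⁻¹ * A : S2 K) : M2 K) * X * (((Lo (x.a ^ 2))⁻¹ * B : S2 K) : M2 K)ᵀ
        = (((Lo x.a)⁻¹ : S2 K) : M2 K) * ((A : M2 K) * X * (B : M2 K)ᵀ) * (((Lo (x.a ^ 2))⁻¹ : S2 K) : M2 K)ᵀ := by
          rw [Matrix.SpecialLinearGroup.coe_mul, Matrix.SpecialLinearGroup.coe_mul, Matrix.transpose_mul]
          simp only [Matrix.mul_assoc]
      _ = ((((Lo x.a)⁻¹ : S2 K) : M2 K) * (Lo x.a : M2 K)) *
          !![t * τ (X 0 0), s ^ 2 * t * τ (X 0 1); s * t * τ (X 1 0), s ^ 3 * t * τ (X 1 1)] *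
          ((((Lo (x.a ^ 2)) : S2 K) : M2 K)ᵀ * (((Lo (x.a ^ 2))⁻¹ : S2 K) : M2 K)ᵀ) := by
          rw [← h6]; simp only [Matrix.mul_assoc]
      _ = _ := by rw [s2_inv_mul, h7]; simp
  set A' : S2 K := (Lo x.a)⁻¹ * A with hA'
  set B' : S2 K := (Lo (x.a ^ 2))⁻¹ * B with hB'
  have hdA := A'.2
  have hdB := B'.2
  rw [Matrix.det_fin_two] at hdA hdB
  -- entries
  have e00 := hact !![1, 0; 0, 0]
  have e01 := hact !![0, 1; 0, 0]
  have e10 := hact !![0, 0; 1, 0]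
  have e11 := hact !![0, 0; 0, 1]
  have ent : ∀ {X Y : M2 K}, X = Y → ∀ i j, X i j = Y i j := fun h i j => by rw [h]
  have a1 := ent e00 0 0
  have a2 := ent e00 0 1
  have a3 := ent e00 1 0
  have b1 := ent e01 0 1
  have c1 := ent e10 1 0
  have c2 := ent e10 0 0
  have b2 := ent e01 0 0
  have d1 := ent e11 1 1
  rw [mul3] at a1 a2 a3 b1 c1 c2 b2 d1
  simp at a1 a2 a3 b1 c1 c2 b2 d1
  -- `a1 : A00 B00 = t`, ...
  have hA00 : (A' : M2 K) 0 0 ≠ 0 := by intro h0; rw [h0] at a1; simp at a1; exact ht a1.symm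
  have hB00 : (B' : M2 K) 0 0 ≠ 0 := by intro h0; rw [h0] at a1; simp at a1; exact ht a1.symm
  have hB10 : (B' : M2 K) 1 0 = 0 := by
    rcases a2 with h | h
    · exact absurd h hA00
    · exact h
  have hA10 : (A' : M2 K) 1 0 = 0 := by
    rcases a3 with h | h
    · exact h
    · exact absurd h hB00
  have hB01 : (B' : M2 K) 0 1 = 0 := by
    rcases b2 with h | h
    · exact absurd h hA00
    · exact h
  have hA01 : (A' : M2 K) 0 1 = 0 := by
    rcases c2 with h | h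
    · exact h
    · exact absurd h hB00
  rw [hA10, hA01] at hdA
  rw [hB10, hB01] at hdB
  simp only [mul_zero, sub_zero] at hdA hdB
  have hA11 : (A' : M2 K) 1 1 ≠ 0 := by intro h0; rw [h0, mul_zero] at hdA; exact zero_ne_one hdA
  obtain ⟨l, hl⟩ : ∃ l : Kˣ, (l : K) = (A' : M2 K) 1 1 := ⟨Units.mk0 _ hA11, rfl⟩
  have hl0 : (l : K) ≠ 0 := l.ne_zero
  have hA00' : (A' : M2 K) 0 0 = ((l : K))⁻¹ := by
    rw [← hl] at hdA; field_simp; linear_combination hdA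
  have hsl : s = (l : K) ^ 2 := by
    -- A11 B00 = s t, A00 B00 = t
    rw [← hl] at c1
    rw [hA00'] at a1
    have h8 : (l : K) * (B' : M2 K) 0 0 = s * ((l : K)⁻¹ * (B' : M2 K) 0 0) := by rw [a1]; exact c1
    field_simp at h8
    linear_combination -h8
  have hB11 : (B' : M2 K) 1 1 = (l : K) ^ 2 := by
    -- A00 B11 = s^2 t, A00 B00 = t, B00 B11 = 1
    rw [hA00'] at a1 b1
    have h8 : (B' : M2 K) 1 1 = s ^ 2 * (B' : M2 K) 0 0 := by
      have : (l : K)⁻¹ * (B' : M2 K) 1 1 = s ^ 2 * ((l : K)⁻¹ * (B' : M2 K) 0 0) := by rw [a1]; exact b1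
      field_simp at this
      linear_combination this
    have h9 : ((B' : M2 K) 1 1 - s) ^ 2 = 0 := by
      linear_combination s ^ 2 * hdB + (B' : M2 K) 1 1 * h8 + (s ^ 2 - (B' : M2 K) 1 1 * s) * h2
    rw [sub_eq_zero.1 ((pow_eq_zero_iff two_ne_zero).1 h9), hsl]
  have hB00' : (B' : M2 K) 0 0 = ((l : K) ^ 2)⁻¹ := by
    rw [hB11] at hdB; field_simp; linear_combination hdB
  have htl : t = ((l : K) ^ 3)⁻¹ := by
    rw [← a1, hA00', hB00']; field_simp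
  have hA2 : A' = dg l := by
    apply Subtype.ext
    apply m2_ext
    · rw [hA00']; simp [dg]
    · rw [hA01]; simp [dg]
    · rw [hA10]; simp [dg]
    · rw [← hl]; simp [dg]
  have hB2 : B' = dg (l ^ 2) := by
    apply Subtype.ext
    apply m2_ext
    · rw [hB00']; simp [dg]
    · rw [hB01]; simp [dg]
    · rw [hB10]; simp [dg]
    · rw [hB11]; simp [dg]
  -- `τ = 1`
  have hτ : τ = RingEquiv.refl K := by
    ext k
    have h8 := ent (hact !![k, 0; 0, 0]) 0 0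
    rw [mul3] at h8
    simp at h8
    have h9 : t * k = t * τ k := by rw [← h8, ← a1]; ring
    exact (mul_left_cancel₀ ht h9).symm
  refine ⟨x.a, l, ?_, ?_, d, hd, ?_⟩
  · rw [← hA2, hA']; group
  · rw [← hB2, hB']; group
  · rw [← hsl, ← htl, ← hτ]; exact hT

/-- an element of `Lc` whose pair normalises the root elements normalises `Aut_S(Q_a)` -/
theorem normAut_of (hS : StSem.{u}) (hK : HypG K 2 n) (hP : Par 2 (Qa K) Γ D) {γ : MulAut (Qa K)} (hγ : γ ∈ Γ)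
    {A B : S2 K} (h : Rep γ A B)
    (hn : ∀ u : K, ∃ v : K, ((A, B) : S2 K × S2 K) * (Lo u, Lo (u ^ 2)) * ((A, B) : S2 K × S2 K)⁻¹ = (Lo v, Lo (v ^ 2))) :
    NormAut ⊤ γ := by
  have hc := hK.char
  intro x hx
  obtain ⟨u, hu⟩ := ind_rep hx
  obtain ⟨v, hv⟩ := hn u
  have h1 := (h.mul hu).mul h.inv
  have h2 := congrArg Prod.fst hv
  have h3 := congrArg Prod.snd hv
  simp only [Prod.mk_mul_mk, Prod.inv_mk] at h2 h3
  rw [h2, h3] at h1
  exact mem_of_rep hS hK hP (mul_mem (mul_mem hγ (hP.indu hx)) (inv_mem hγ)) h1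

/-- the first half of (La2) -/
theorem stHalf (hG : StGraph.{u}) (hS : StSem.{u}) : H889.GT.StHalf.{u} := by
  intro K _ n hK hn Γ D hP
  have hc := hK.char
  have hfin := hK.fin
  have h2 : (2 : K) = 0 := CharTwo.two_eq_zero
  have hq : 4 ≤ Nat.card K := by
    rw [hK.card]
    calc 4 = 2 ^ 2 := rfl
      _ ≤ 2 ^ n := Nat.pow_le_pow_right (by norm_num) hn
  -- the root elements
  have r1 : ∀ u : K, ((Lo u, Lo (u ^ 2)) : S2 K × S2 K) ∈ Lh Γ := fun u =>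
    ⟨cjx (xa u), ind_le_Lc Γ (ind_mem (cjx_apply _)), rep_xa u⟩
  -- images of conjugates of `Aut_S(Q_a)`: bound
  have key : ∀ Y : Subgroup (S2 K × S2 K), Y ≤ Lh Γ → IsPGroup 2 Y → ∃ g ∈ Γ, ∀ y ∈ Y, ∀ γ ∈ Lc Γ, Rep γ y.1 y.2 →
      g * γ * g⁻¹ ∈ autInducedBy (⊤ : Subgroup (GU K)) (Qa K) := by
    intro Y hY hYp
    let Yt : Subgroup (MulAut (Qa K)) :=
      { carrier := {γ | γ ∈ Lc Γ ∧ ∃ y ∈ Y, Rep γ y.1 y.2}
        one_mem' := ⟨one_mem _, 1, one_mem _, Rep.one⟩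
        mul_mem' := by
          rintro a b ⟨ha, y, hy, ha'⟩ ⟨hb, z, hz, hb'⟩
          exact ⟨mul_mem ha hb, y * z, mul_mem hy hz, ha'.mul hb'⟩
        inv_mem' := by
          rintro a ⟨ha, y, hy, ha'⟩
          exact ⟨inv_mem ha, y⁻¹, inv_mem hy, ha'.inv⟩ }
    obtain ⟨g, hg, hgx⟩ := hP.syl Yt (fun x hx => Lc_le hP hx.1) (by
      rintro ⟨x, hx1, y, hy, hxy⟩
      obtain ⟨k, hk⟩ := hYp ⟨y, hy⟩
      refine ⟨k + 1, Subtype.ext ?_⟩
      show x ^ 2 ^ (k + 1) = 1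
      rw [pow_succ, pow_mul, sq]
      apply sq_of_triv
      intro g
      have h3 := hxy.pow (2 ^ k) g
      have h4 : y ^ 2 ^ k = 1 := congrArg Subtype.val hk
      have h5 := congrArg Prod.fst h4
      have h6 := congrArg Prod.snd h4
      simp only [Prod.pow_fst, Prod.pow_snd, Prod.fst_one, Prod.snd_one] at h5 h6
      rw [h5, h6] at h3
      rw [h3]; simp)
    exact ⟨g, hg, fun y hy γ hγ hr => hgx γ ⟨hγ, y, hy, hr⟩⟩
  have hsyl : ∀ Y : Subgroup (S2 K × S2 K), Y ≤ Lh Γ → IsPGroup 2 Y → Nat.card Y ≤ Nat.card K := by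
    intro Y hY hYp
    obtain ⟨g, hg, hgx⟩ := key Y hY hYp
    -- choose lifts
    have hlift : ∀ y : Y, ∃ γ ∈ Lc Γ, Rep γ (y : S2 K × S2 K).1 (y : S2 K × S2 K).2 := fun y => hY y.2
    choose l hl1 hl2 using hlift
    have hu : ∀ y : Y, ∃ u : K, Rep (g * l y * g⁻¹) (Lo u) (Lo (u ^ 2)) := fun y =>
      ind_rep (hgx y y.2 (l y) (hl1 y) (hl2 y))
    choose v hv using hu
    refine Nat.card_le_card_of_injective v fun y z hyz => ?_
    have h3 : ∀ e, cm ((g * l y * g⁻¹) e) = cm ((g * l z * g⁻¹) e) := by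
      intro e
      rw [hv y e, hv z e, hyz]
    have h4 : ∀ e, cm (l y e) = cm (l z e) := by
      intro e
      have h5 := cj_triv hS hK g⁻¹ h3 e
      have h6 : ∀ k : MulAut (Qa K), g⁻¹ * (g * k * g⁻¹) * g⁻¹⁻¹ = k := fun k => by group
      rwa [h6, h6] at h5
    obtain ⟨h5, h6⟩ := (hl2 y).unique (hl2 z) h4
    exact Subtype.ext (Prod.ext h5 h6)
  have hgen : Lh Γ ≤ Subgroup.closure {x | x ∈ Lh Γ ∧ ∃ k : ℕ, x ^ 2 ^ k = 1} := by
    -- every element of `Lc` has a representative there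
    have h3 : ∀ y ∈ Lc Γ, ∃ z ∈ Subgroup.closure {x | x ∈ Lh Γ ∧ ∃ k : ℕ, x ^ 2 ^ k = 1}, Rep y z.1 z.2 := by
      intro y hy
      have hy' := hy
      unfold Lc at hy
      induction hy using Subgroup.closure_induction with
      | mem y h =>
        obtain ⟨γ, hγ, x, hx, rfl⟩ := h
        obtain ⟨A, B, hAB⟩ := Lc_rep hS hK hy'
        refine ⟨(A, B), Subgroup.subset_closure ⟨⟨_, hy', hAB⟩, 2, ?_⟩, hAB⟩
        have h4 := hAB.pow (2 ^ 2)
        rw [conj_pow, ind_pow hx, mul_one, mul_inv_cancel] at h4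
        obtain ⟨h5, h6⟩ := h4.unique Rep.one (fun _ => rfl)
        exact Prod.ext h5 h6
      | one => exact ⟨1, one_mem _, Rep.one⟩
      | mul a b ha hb h1 h2 =>
        obtain ⟨y, hy, h1⟩ := h1 ha
        obtain ⟨z, hz, h2⟩ := h2 hb
        exact ⟨y * z, mul_mem hy hz, h1.mul h2⟩
      | inv a ha h1 =>
        obtain ⟨y, hy, h1⟩ := h1 ha
        exact ⟨y⁻¹, inv_mem hy, h1.inv⟩
    rintro x ⟨y, hy, hx⟩
    obtain ⟨z, hz, hyz⟩ := h3 y hy
    obtain ⟨h4, h5⟩ := hx.unique hyz (fun _ => rfl)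
    have h6 : x = z := Prod.ext h4 h5
    rw [h6]; exact hz
  have hne : ∃ x ∈ Lh Γ, ∀ u : K, x ≠ (Lo u, Lo (u ^ 2)) := by
    have h3 := hP.nn
    unfold NormAut at h3
    push Not at h3
    obtain ⟨γ, hγ, x, hx, hn⟩ := h3
    have h4 : γ * x * γ⁻¹ ∈ Lc Γ := Subgroup.subset_closure ⟨γ, hγ, x, hx, rfl⟩
    obtain ⟨A, B, hAB⟩ := Lc_rep hS hK h4
    refine ⟨(A, B), ⟨_, h4, hAB⟩, fun u hu => hn ?_⟩
    obtain ⟨h5, h6⟩ := Prod.mk.inj hu
    rw [h5, h6] at hAB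
    exact mem_of_rep hS hK hP (Lc_le hP h4) hAB
  have hT : ∀ x ∈ Lh Γ, (∀ u : K, ∃ v : K, x * (Lo u, Lo (u ^ 2)) * x⁻¹ = (Lo v, Lo (v ^ 2))) →
      ∃ (u : K) (l : Kˣ), x = (Lo u * dg l, Lo (u ^ 2) * dg (l ^ 2)) := by
    rintro ⟨A, B⟩ ⟨γ, hγ, hr⟩ hx
    obtain ⟨u, l, h3, h4, -⟩ := norm_form hK hP (Lc_le hP hγ) (normAut_of hS hK hP (Lc_le hP hγ) hr hx) hr
    exact ⟨u, l, Prod.ext h3 h4⟩
  obtain ⟨g1, g2, g3, g4⟩ := hG hq (Lh Γ) r1 hsyl hgen hne hT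
  refine ⟨?_, ?_, ?_⟩
  · -- the torus
    intro t ht α hα
    obtain ⟨γ, hγ, hr⟩ := g1 (Units.mk0 t ht)
    have hnorm : NormAut ⊤ γ := by
      refine normAut_of hS hK hP (Lc_le hP hγ) hr fun u => ⟨t ^ 2 * u, ?_⟩
      have h3 : ∀ (l : Kˣ) (w : K), dg l * Lo w * (dg l)⁻¹ = Lo ((l : K) ^ 2 * w) := by
        intro l w
        rw [mul_inv_eq_iff_eq_mul]
        apply Subtype.ext
        rw [Matrix.SpecialLinearGroup.coe_mul, Matrix.SpecialLinearGroup.coe_mul]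
        have := l.ne_zero
        apply m2_ext <;> simp [dg, Lo]
        field_simp
      apply Prod.ext
      · show dg _ * Lo u * (dg _)⁻¹ = _
        rw [h3]; rfl
      · show dg _ * Lo (u ^ 2) * (dg _)⁻¹ = _
        rw [h3]
        congr 1
        show ((Units.mk0 t ht ^ 2 : Kˣ) : K) ^ 2 * u ^ 2 = _
        rw [Units.val_pow_eq_pow_val, Units.val_mk0]
        ring
    obtain ⟨u, l, h3, h4, d, hd, hTd⟩ := norm_form hK hP (Lc_le hP hγ) hnorm hr
    have h5 : (l : K) = t := by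
      have := congrArg (fun s : S2 K => (s : M2 K) 1 1) h3
      simp only [Matrix.SpecialLinearGroup.coe_mul] at this
      simpa [dg, Lo] using this.symm
    rw [h5] at hTd
    rw [show α = d from ?_]
    · exact hd
    · ext g : 1
      apply GU.ext
      · rw [hα.a, hTd.a]
      · rw [hα.b, hTd.b]
      · rw [hα.c, hTd.c]
      · rw [hα.d, hTd.d]
      · rw [hα.e, hTd.e]
      · rw [hα.f, hTd.f]
  · obtain ⟨w, hw, hr⟩ := g2
    refine ⟨w, Lc_le hP hw, fun g => ?_⟩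
    have h3 := hr g
    have ent : ∀ {X Y : M2 K}, X = Y → ∀ i j, X i j = Y i j := fun h i j => by rw [h]
    have e00 := ent h3 0 0
    have e01 := ent h3 0 1
    have e10 := ent h3 1 0
    have e11 := ent h3 1 1
    rw [mul3] at e00 e01 e10 e11
    simp [cm, wS] at e00 e01 e10 e11
    refine ⟨e00, e10, ?_, ?_⟩
    · rw [e01]; linear_combination -(g : GU K).c * h2
    · rw [e11]; linear_combination (g : GU K).b * h2
  · intro w hw hact γ hγ
    have hwr : Rep w wS wS := by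
      intro g
      obtain ⟨h3, h4, h5, h6⟩ := hact g
      apply m2_ext <;> rw [mul3] <;> simp [cm, wS]
      · exact h3
      · rw [h5]; linear_combination (g : GU K).c * h2
      · exact h4
      · rw [h6]; linear_combination -(g : GU K).b * h2
    -- the lifts
    have hlift : ∀ z ∈ Subgroup.closure ({x : S2 K × S2 K | ∃ u : K, x = (Lo u, Lo (u ^ 2))} ∪ {(wS, wS)}),
        ∃ l ∈ Subgroup.closure ((autInducedBy (⊤ : Subgroup (GU K)) (Qa K) : Set (MulAut (Qa K))) ∪ {w}),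
          Rep l z.1 z.2 := by
      intro z hz
      induction hz using Subgroup.closure_induction with
      | mem z h =>
        rcases h with ⟨u, rfl⟩ | h
        · exact ⟨cjx (xa u), Subgroup.subset_closure (Or.inl (ind_mem (cjx_apply _))), rep_xa u⟩
        · rw [Set.mem_singleton_iff] at h
          subst h
          exact ⟨w, Subgroup.subset_closure (Or.inr rfl), hwr⟩
      | one => exact ⟨1, one_mem _, Rep.one⟩
      | mul a b _ _ h1 h2 =>
        obtain ⟨l, hl, h1⟩ := h1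
        obtain ⟨m, hm, h2⟩ := h2
        exact ⟨l * m, mul_mem hl hm, h1.mul h2⟩
      | inv a _ h1 =>
        obtain ⟨l, hl, h1⟩ := h1
        exact ⟨l⁻¹, inv_mem hl, h1.inv⟩
    let Y : Subgroup (S2 K × S2 K) :=
      { carrier := {z | ∃ x ∈ autInducedBy (⊤ : Subgroup (GU K)) (Qa K), Rep (γ * x * γ⁻¹) z.1 z.2}
        one_mem' := ⟨1, one_mem _, by rw [mul_one, mul_inv_cancel]; exact Rep.one⟩
        mul_mem' := by
          rintro a b ⟨x, hx, h3⟩ ⟨y, hy, h4⟩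
          refine ⟨x * y, mul_mem hx hy, ?_⟩
          have := h3.mul h4
          rwa [show γ * x * γ⁻¹ * (γ * y * γ⁻¹) = γ * (x * y) * γ⁻¹ by group] at this
        inv_mem' := by
          rintro a ⟨x, hx, h3⟩
          refine ⟨x⁻¹, inv_mem hx, ?_⟩
          have := h3.inv
          rwa [show (γ * x * γ⁻¹)⁻¹ = γ * x⁻¹ * γ⁻¹ by group] at this }
    obtain ⟨l0, hl0, hl1⟩ := g4 Y (by
      rintro z ⟨x, hx, hz⟩
      exact ⟨_, Subgroup.subset_closure ⟨γ, hγ, x, hx, rfl⟩, hz⟩) (by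
      rintro ⟨z, x, hx, hz⟩
      refine ⟨2, Subtype.ext ?_⟩
      show z ^ 2 ^ 2 = 1
      have h4 := hz.pow (2 ^ 2)
      rw [conj_pow, ind_pow hx, mul_one, mul_inv_cancel] at h4
      obtain ⟨h5, h6⟩ := h4.unique Rep.one (fun _ => rfl)
      exact Prod.ext h5 h6)
    obtain ⟨l, hl, hlr⟩ := hlift l0 (g3 hl0)
    have hlΓ : l ∈ Γ := by
      have : Subgroup.closure ((autInducedBy (⊤ : Subgroup (GU K)) (Qa K) : Set (MulAut (Qa K))) ∪ {w}) ≤ Γ := by
        rw [Subgroup.closure_le]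
        rintro x (hx | hx)
        · exact hP.indu hx
        · rw [Set.mem_singleton_iff.1 hx]; exact hw
      exact this hl
    refine ⟨l, hl, fun x hx => ?_⟩
    obtain ⟨u0, hu0⟩ := ind_rep hx
    obtain ⟨f, hf⟩ := rep_cj hS hK γ
    have h3 := hf x _ _ hu0
    obtain ⟨v, hv⟩ := hl1 _ (show (f (Lo u0) (Lo (u0 ^ 2))) ∈ Y from ⟨x, hx, h3⟩)
    have h4 := (hlr.mul h3).mul hlr.inv
    have h5 := congrArg Prod.fst hv
    have h6 := congrArg Prod.snd hv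
    simp only [Prod.fst_mul, Prod.snd_mul, Prod.fst_inv, Prod.snd_inv] at h5 h6
    rw [h5, h6] at h4
    have h7 : l * γ * x * (l * γ)⁻¹ = l * (γ * x * γ⁻¹) * l⁻¹ := by group
    rw [h7]
    refine mem_of_rep hS hK hP ?_ h4
    exact mul_mem (mul_mem hlΓ (mul_mem (mul_mem hγ (hP.indu hx)) (inv_mem hγ))) (inv_mem hlΓ)

end par

end Cfsg.Agent.H297.GT
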