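import Cfsg.Agent.H297.GT.Defs

/-!
# S5211, (La2): linear similitudes of the determinant on `M₂(K)` are `X ↦ A X Bᵀ` or `X ↦ A Xᵀ Bᵀ`
-/

set_option autoImplicit false

namespace Cfsg.Agent.H297.GT

open Matrix

universe u

variable {K : Type u} [Field K]

/-- `2 × 2` matrices -/
abbrev M2 (K : Type u) := Matrix (Fin 2) (Fin 2) K

theorem m2_ext {A B : M2 K} (h00 : A 0 0 = B 0 0) (h01 : A 0 1 = B 0 1) (h10 : A 1 0 = B 1 0) (h11 : A 1 1 = B 1 1) :
    A = B := by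
  ext i j
  fin_cases i <;> fin_cases j <;> assumption

theorem mul3 (A X B : M2 K) (k l : Fin 2) : (A * X * Bᵀ) k l =
    A k 0 * X 0 0 * B l 0 + A k 0 * X 0 1 * B l 1 + A k 1 * X 1 0 * B l 0 + A k 1 * X 1 1 * B l 1 := by
  simp only [Matrix.mul_apply, Fin.sum_univ_two, Matrix.transpose_apply]
  ring

/-- a rank one matrix -/
theorem exists_norm {Z : M2 K} (hZ : Z ≠ 0) (hd : Z.det = 0) :
    ∃ A B : M2 K, A.det ≠ 0 ∧ B.det ≠ 0 ∧ A * Z * Bᵀ = !![1, 0; 0, 0] := by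
  -- first case
  have key : ∀ Y : M2 K, Y.det = 0 → Y 0 0 ≠ 0 → ∃ A B : M2 K, A.det ≠ 0 ∧ B.det ≠ 0 ∧ A * Y * Bᵀ = !![1, 0; 0, 0] := by
    intro Y hY h0
    rw [Matrix.det_fin_two] at hY
    refine ⟨!![(Y 0 0)⁻¹, 0; -(Y 1 0) * (Y 0 0)⁻¹, 1], !![1, 0; -(Y 0 1) * (Y 0 0)⁻¹, 1], ?_, ?_, ?_⟩
    · rw [Matrix.det_fin_two_of]; simpa using h0
    · rw [Matrix.det_fin_two_of]; simp
    · apply m2_ext <;> rw [mul3] <;> simp <;> field_simp <;>
        first | done | ring1 | linear_combination hY | linear_combination -hY | skip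
  let s : M2 K := !![0, 1; 1, 0]
  have hs : s.det ≠ 0 := by simp [s, Matrix.det_fin_two_of]
  have hex : ∃ i j, Z i j ≠ 0 := by
    by_contra h
    push Not at h
    exact hZ (Matrix.ext h)
  have fin : ∀ P Q : M2 K, P.det ≠ 0 → Q.det ≠ 0 → (P * Z * Qᵀ) 0 0 ≠ 0 →
      ∃ A B : M2 K, A.det ≠ 0 ∧ B.det ≠ 0 ∧ A * Z * Bᵀ = !![1, 0; 0, 0] := by
    intro P Q hP hQ h
    obtain ⟨A, B, hA, hB, h1⟩ := key (P * Z * Qᵀ) (by rw [Matrix.det_mul, Matrix.det_mul, hd]; simp) h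
    refine ⟨A * P, B * Q, by rw [Matrix.det_mul]; exact mul_ne_zero hA hP, by rw [Matrix.det_mul]; exact mul_ne_zero hB hQ, ?_⟩
    rw [Matrix.transpose_mul, ← h1]
    simp only [Matrix.mul_assoc]
  have h1d : (1 : M2 K).det ≠ 0 := by simp
  obtain ⟨i, j, hij⟩ := hex
  fin_cases i <;> fin_cases j
  · exact fin 1 1 h1d h1d (by simpa using hij)
  · exact fin 1 s h1d hs (by rw [mul3]; simpa [s] using hij)
  · exact fin s 1 hs h1d (by rw [mul3]; simpa [s] using hij)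
  · exact fin s s hs hs (by rw [mul3]; simpa [s] using hij)

/-- linear similitudes of the determinant -/
theorem exists_ten (T : M2 K →ₗ[K] M2 K) {m : K} (hm : m ≠ 0) (hT : ∀ X, (T X).det = m * X.det) :
    ∃ A B : M2 K, A.det ≠ 0 ∧ B.det ≠ 0 ∧ ((∀ X, T X = A * X * Bᵀ) ∨ (∀ X, T X = A * Xᵀ * Bᵀ)) := by
  -- step 3
  have st3 : ∀ (T : M2 K →ₗ[K] M2 K) (m : K), m ≠ 0 → (∀ X, (T X).det = m * X.det) → T !![1, 0; 0, 0] = !![1, 0; 0, 0] →
      T !![0, 0; 0, 1] = !![0, 0; 0, m] →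
      ∃ A B : M2 K, A.det ≠ 0 ∧ B.det ≠ 0 ∧ ((∀ X, T X = A * X * Bᵀ) ∨ (∀ X, T X = A * Xᵀ * Bᵀ)) := by
    intro T m hm hT h1 h2
    have hX : ∀ X : M2 K, X = X 0 0 • !![1, 0; 0, 0] + X 0 1 • !![0, 1; 0, 0] + X 1 0 • !![0, 0; 1, 0] +
        X 1 1 • !![0, 0; 0, 1] := by
      intro X
      apply m2_ext <;> simp
    set Y := T !![0, 1; 0, 0] with hY
    set W := T !![0, 0; 1, 0] with hW
    have hTX : ∀ X, T X = X 0 0 • !![1, 0; 0, 0] + X 0 1 • Y + X 1 0 • W + X 1 1 • !![0, 0; 0, m] := by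
      intro X
      conv_lhs => rw [hX X]
      rw [map_add, map_add, map_add, map_smul, map_smul, map_smul, map_smul, h1, h2]
    have hdet : ∀ x y z w : K, (x + y * Y 0 0 + z * W 0 0) * (y * Y 1 1 + z * W 1 1 + w * m) -
        (y * Y 0 1 + z * W 0 1) * (y * Y 1 0 + z * W 1 0) = m * (x * w - y * z) := by
      intro x y z w
      have h3 := hT !![x, y; z, w]
      rw [hTX, Matrix.det_fin_two, Matrix.det_fin_two] at h3
      simp at h3
      linear_combination h3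
    have a1 := hdet 1 1 0 0
    have a2 := hdet 0 1 0 0
    have a3 := hdet 0 1 0 1
    have b1 := hdet 1 0 1 0
    have b2 := hdet 0 0 1 0
    have b3 := hdet 0 0 1 1
    have c1 := hdet 0 1 1 0
    have hY11 : Y 1 1 = 0 := by linear_combination a1 - a2
    have hY00 : Y 0 0 = 0 := by
      have : Y 0 0 * m = 0 := by linear_combination a3 - a2
      exact (mul_eq_zero.1 this).resolve_right hm
    have hW11 : W 1 1 = 0 := by linear_combination b1 - b2
    have hW00 : W 0 0 = 0 := by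
      have : W 0 0 * m = 0 := by linear_combination b3 - b2
      exact (mul_eq_zero.1 this).resolve_right hm
    rw [hY11, hY00] at a2
    rw [hW11, hW00] at b2
    rw [hY11, hY00, hW11, hW00] at c1
    have hYY : Y 0 1 * Y 1 0 = 0 := by linear_combination -a2
    have hWW : W 0 1 * W 1 0 = 0 := by linear_combination -b2
    have hYW : Y 0 1 * W 1 0 + W 0 1 * Y 1 0 = m := by linear_combination -c1 + a2 + b2
    rcases mul_eq_zero.1 hYY with h3 | h3
    · -- swapped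
      rw [h3, zero_mul, zero_add] at hYW
      have h4 : W 0 1 ≠ 0 := by rintro h; rw [h, zero_mul] at hYW; exact hm hYW.symm
      have h5 : Y 1 0 ≠ 0 := by rintro h; rw [h, mul_zero] at hYW; exact hm hYW.symm
      have h6 : W 1 0 = 0 := (mul_eq_zero.1 hWW).resolve_left h4
      refine ⟨!![1, 0; 0, Y 1 0], !![1, 0; 0, W 0 1], ?_, ?_, Or.inr fun X => ?_⟩
      · rw [Matrix.det_fin_two_of]; simpa using h5
      · rw [Matrix.det_fin_two_of]; simpa using h4
      · rw [hTX]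
        apply m2_ext <;> rw [mul3] <;> simp [hY11, hY00, hW11, hW00, h3, h6]
        · ring
        · rw [← hYW]; ring
    · rw [h3, mul_zero, add_zero] at hYW
      have h4 : Y 0 1 ≠ 0 := by rintro h; rw [h, zero_mul] at hYW; exact hm hYW.symm
      have h5 : W 1 0 ≠ 0 := by rintro h; rw [h, mul_zero] at hYW; exact hm hYW.symm
      have h6 : W 0 1 = 0 := (mul_eq_zero.1 hWW).resolve_right h5
      refine ⟨!![1, 0; 0, W 1 0], !![1, 0; 0, Y 0 1], ?_, ?_, Or.inl fun X => ?_⟩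
      · rw [Matrix.det_fin_two_of]; simpa using h5
      · rw [Matrix.det_fin_two_of]; simpa using h4
      · rw [hTX]
        apply m2_ext <;> rw [mul3] <;> simp [hY11, hY00, hW11, hW00, h3, h6]
        · ring
        · rw [← hYW]; ring
  -- transport
  have tr : ∀ (T : M2 K →ₗ[K] M2 K) (P Q : M2 K), P.det ≠ 0 → Q.det ≠ 0 →
      (∃ A B : M2 K, A.det ≠ 0 ∧ B.det ≠ 0 ∧ ((∀ X, P * T X * Qᵀ = A * X * Bᵀ) ∨ (∀ X, P * T X * Qᵀ = A * Xᵀ * Bᵀ))) →
      ∃ A B : M2 K, A.det ≠ 0 ∧ B.det ≠ 0 ∧ ((∀ X, T X = A * X * Bᵀ) ∨ (∀ X, T X = A * Xᵀ * Bᵀ)) := by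
    intro T P Q hP hQ
    rintro ⟨A, B, hA, hB, h⟩
    have hP' : P⁻¹ * P = 1 := Matrix.nonsing_inv_mul _ (isUnit_iff_ne_zero.2 hP)
    have hQ' : Q⁻¹ * Q = 1 := Matrix.nonsing_inv_mul _ (isUnit_iff_ne_zero.2 hQ)
    have hPd : (P⁻¹).det ≠ 0 := by
      intro h0
      have := congrArg Matrix.det hP'
      rw [Matrix.det_mul, h0, zero_mul, Matrix.det_one] at this
      exact zero_ne_one this
    have hQd : (Q⁻¹).det ≠ 0 := by
      intro h0
      have := congrArg Matrix.det hQ'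
      rw [Matrix.det_mul, h0, zero_mul, Matrix.det_one] at this
      exact zero_ne_one this
    have hrec : ∀ Y : M2 K, Y = P⁻¹ * (P * Y * Qᵀ) * (Q⁻¹)ᵀ := by
      intro Y
      have hQ2 : Qᵀ * (Q⁻¹)ᵀ = 1 := by rw [← Matrix.transpose_mul, hQ', Matrix.transpose_one]
      calc Y = (P⁻¹ * P) * Y * (Qᵀ * (Q⁻¹)ᵀ) := by rw [hP', hQ2]; simp
        _ = _ := by simp only [Matrix.mul_assoc]
    refine ⟨P⁻¹ * A, Q⁻¹ * B, by rw [Matrix.det_mul]; exact mul_ne_zero hPd hA,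
      by rw [Matrix.det_mul]; exact mul_ne_zero hQd hB, ?_⟩
    rcases h with h | h
    · left
      intro X
      rw [hrec (T X), h X, Matrix.transpose_mul]
      simp only [Matrix.mul_assoc]
    · right
      intro X
      rw [hrec (T X), h X, Matrix.transpose_mul]
      simp only [Matrix.mul_assoc]
  -- the linear map `X ↦ P * T X * Qᵀ`
  let mk : M2 K → M2 K → (M2 K →ₗ[K] M2 K) → (M2 K →ₗ[K] M2 K) := fun P Q T =>
    { toFun := fun X => P * T X * Qᵀ
      map_add' := fun X Y => by rw [map_add, Matrix.mul_add, Matrix.add_mul]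
      map_smul' := fun a X => by
        rw [map_smul, RingHom.id_apply, Matrix.mul_smul, Matrix.smul_mul] }
  have hmk : ∀ P Q T X, mk P Q T X = P * T X * Qᵀ := fun _ _ _ _ => rfl
  have hmkd : ∀ P Q T X, (mk P Q T X).det = P.det * Q.det * (T X).det := by
    intro P Q T X
    rw [hmk, Matrix.det_mul, Matrix.det_mul, Matrix.det_transpose]
    ring
  -- step 2
  have st2 : ∀ (T : M2 K →ₗ[K] M2 K) (m : K), m ≠ 0 → (∀ X, (T X).det = m * X.det) → T !![1, 0; 0, 0] = !![1, 0; 0, 0] →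
      ∃ A B : M2 K, A.det ≠ 0 ∧ B.det ≠ 0 ∧ ((∀ X, T X = A * X * Bᵀ) ∨ (∀ X, T X = A * Xᵀ * Bᵀ)) := by
    intro T m hm hT h1
    set Z := T !![0, 0; 0, 1] with hZ
    have hZd : Z 0 0 * Z 1 1 - Z 0 1 * Z 1 0 = 0 := by
      have := hT !![0, 0; 0, 1]
      rw [← hZ, Matrix.det_fin_two, Matrix.det_fin_two_of] at this
      simpa using this
    have hZm : Z 1 1 = m := by
      have h3 := hT (!![1, 0; 0, 0] + !![0, 0; 0, 1])
      rw [map_add, h1, ← hZ, Matrix.det_fin_two, Matrix.det_fin_two] at h3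
      simp at h3
      linear_combination h3 - hZd
    rw [hZm] at hZd
    have hP : (!![1, -(Z 0 1) * m⁻¹; 0, 1] : M2 K).det ≠ 0 := by rw [Matrix.det_fin_two_of]; simp
    have hQ : (!![1, -(Z 1 0) * m⁻¹; 0, 1] : M2 K).det ≠ 0 := by rw [Matrix.det_fin_two_of]; simp
    refine tr T _ _ hP hQ ?_
    refine st3 (mk _ _ T) m hm (fun X => ?_) ?_ ?_
    · rw [hmkd, hT, Matrix.det_fin_two_of, Matrix.det_fin_two_of]
      ring
    · rw [hmk, h1]
      apply m2_ext <;> rw [mul3] <;> simp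
    · rw [hmk, ← hZ]
      apply m2_ext <;> rw [mul3] <;> simp [hZm]
      · field_simp
        linear_combination hZd
      · field_simp; ring
      · field_simp; ring
  -- step 1
  have hZ0 : T !![1, 0; 0, 0] ≠ 0 := by
    intro h0
    have h3 := hT (!![1, 0; 0, 0] + !![0, 0; 0, 1])
    have h4 := hT !![0, 0; 0, 1]
    rw [map_add, h0, zero_add, h4] at h3
    rw [Matrix.det_fin_two, Matrix.det_fin_two] at h3
    simp at h3
    exact hm h3.symm
  obtain ⟨P, Q, hP, hQ, h1⟩ := exists_norm hZ0 (by rw [hT, Matrix.det_fin_two_of]; simp)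
  refine tr T P Q hP hQ (st2 (mk P Q T) (P.det * Q.det * m) (mul_ne_zero (mul_ne_zero hP hQ) hm) (fun X => ?_) h1)
  rw [hmkd, hT]
  ring

/-- uniqueness of the factors (characteristic two) -/
theorem ten_unique [CharP K 2] {A B A' B' : S2 K}
    (h : ∀ X : M2 K, (A : M2 K) * X * (B : M2 K)ᵀ = (A' : M2 K) * X * (B' : M2 K)ᵀ) : A = A' ∧ B = B' := by
  have h2 : (2 : K) = 0 := CharTwo.two_eq_zero
  have hab : ∀ k i l j, (A : M2 K) k i * (B : M2 K) l j = (A' : M2 K) k i * (B' : M2 K) l j := by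
    intro k i l j
    have h1 := congrFun (congrFun (h (Matrix.single i j 1)) k) l
    rw [mul3, mul3] at h1
    fin_cases i <;> fin_cases j <;> simpa [Matrix.single_apply] using h1
  have hdA := A.2
  have hdB := B.2
  have hdA' := A'.2
  have hdB' := B'.2
  rw [Matrix.det_fin_two] at hdA hdB hdA' hdB'
  obtain ⟨l, j, hlj⟩ : ∃ l j, (B : M2 K) l j ≠ 0 := by
    by_contra hcon
    push Not at hcon
    rw [hcon 0 0, hcon 0 1] at hdB
    simp at hdB
  have hA1 : ∀ k i, (A : M2 K) k i = ((B' : M2 K) l j * ((B : M2 K) l j)⁻¹) * (A' : M2 K) k i := by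
    intro k i
    have := hab k i l j
    field_simp
    linear_combination this
  set c := (B' : M2 K) l j * ((B : M2 K) l j)⁻¹ with hc
  have hc1 : c ^ 2 = 1 := by
    rw [hA1 0 0, hA1 1 1, hA1 0 1, hA1 1 0] at hdA
    linear_combination hdA - c ^ 2 * hdA'
  have hc2 : c = 1 := by
    have : (c - 1) ^ 2 = 0 := by linear_combination hc1 + (1 - c) * h2
    exact sub_eq_zero.1 (pow_eq_zero_iff two_ne_zero |>.1 this)
  have hAA : A = A' := by
    apply Subtype.ext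
    ext k i
    rw [hA1, hc2, one_mul]
  refine ⟨hAA, ?_⟩
  subst hAA
  obtain ⟨k, i, hki⟩ : ∃ k i, (A : M2 K) k i ≠ 0 := by
    by_contra hcon
    push Not at hcon
    rw [hcon 0 0, hcon 0 1] at hdA'
    simp at hdA'
  apply Subtype.ext
  ext l j
  exact mul_left_cancel₀ hki (hab k i l j)

end Cfsg.Agent.H297.GT
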